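import Groth.Agent.Sga4h.TotTri

/-!
# Endomorphisms induced on derived direct images

`IsAct u s a`: `u : (Y, K) ⟶ (X, M)` over `j : Y ⟶ X` (usually universal, `M = R j_* K`), `s` an endomorphism of
`(Y, K)`, and `a : M ⟶ M` the induced endomorphism.
* `exists_isAct`, `IsAct.unique`, `IsAct.unit`, `IsAct.bc`, `IsAct.shift`, `IsAct.comp`;
* `local_eq_id`: the local statement "no vanishing cycles on a resolution".
-/

set_option autoImplicit false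
universe u
open CategoryTheory CategoryTheory.Limits AlgebraicGeometry Opposite DerivedCategory

namespace Groth.Agent.Vancyc.H682.Act

open EtCoh Groth.Agent.Sga4h.LPull Groth.Agent.Sga4h.TotCat Groth.Agent.Sga4h.UnivTri

attribute [local instance] HasDerivedCategory.standard

variable {X Y Z X' Y' : Scheme.{u}}

/-- `a : M ⟶ M` is induced by the endomorphism `s` of `(Y, K)`. -/
def IsAct {K : D Y} {M : D X} (u : (⟨Y, K⟩ : Tot) ⟶ ⟨X, M⟩) (s : (⟨Y, K⟩ : Tot) ⟶ ⟨Y, K⟩)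
    (a : M ⟶ M) : Prop :=
  u ≫ v (x := ⟨X, M⟩) a = s ≫ u

section basic

variable {K : D Y} {M : D X} {u : (⟨Y, K⟩ : Tot) ⟶ ⟨X, M⟩} {s : (⟨Y, K⟩ : Tot) ⟶ ⟨Y, K⟩}

lemma exists_isAct (hU : IsU u) (hs : s.base ≫ u.base = u.base) : ∃ a : M ⟶ M, IsAct u s a := by
  obtain ⟨b, hb, hb'⟩ := hU.exists_desc (s ≫ u) (𝟙 X) (by
    rw [comp_base, hs]; exact Category.comp_id _)
  obtain ⟨a, rfl⟩ := exists_v (x := ⟨X, M⟩) b hb
  exact ⟨a, hb'⟩

lemma IsAct.unique (hU : IsU u) {a b : M ⟶ M} (ha : IsAct u s a) (hb : IsAct u s b) : a = b :=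
  v_injective (x := ⟨X, M⟩) (hU.hom_ext rfl (ha.trans hb.symm))

lemma isAct_id : IsAct u (𝟙 _) (𝟙 M) := by
  change u ≫ v (x := ⟨X, M⟩) (𝟙 M) = 𝟙 _ ≫ u
  rw [Category.id_comp]
  exact (congrArg (fun t => u ≫ t) (v_id ⟨X, M⟩)).trans (Category.comp_id u)

lemma IsAct.comp {s' : (⟨Y, K⟩ : Tot) ⟶ ⟨Y, K⟩} {a a' : M ⟶ M} (h : IsAct u s a)
    (h' : IsAct u s' a') : IsAct u (s ≫ s') (a' ≫ a) := by
  change u ≫ v (x := ⟨X, M⟩) (a' ≫ a) = (s ≫ s') ≫ u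
  rw [← v_comp (x := ⟨X, M⟩) a a', ← Category.assoc]
  rw [show u ≫ v (x := ⟨X, M⟩) a = s ≫ u from h, Category.assoc,
    show u ≫ v (x := ⟨X, M⟩) a' = s' ≫ u from h', Category.assoc]

/-- The unit is invariant. -/
lemma IsAct.unit (hU : IsU u) {F : D X} {η : F ⟶ M} {κ : (⟨Y, K⟩ : Tot) ⟶ ⟨X, F⟩}
    (hκ : u ≫ v (x := ⟨X, M⟩) η = κ) (hs : s ≫ κ = κ) {a : M ⟶ M} (ha : IsAct u s a) :
    η ≫ a = η := by
  refine v_injective (x := ⟨X, M⟩) (hU.hom_ext (b := v (x := ⟨X, M⟩) (η ≫ a))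
    (b' := v (x := ⟨X, M⟩) η) rfl ?_)
  rw [← v_comp (x := ⟨X, M⟩) a η, ← Category.assoc,
    show u ≫ v (x := ⟨X, M⟩) a = s ≫ u from ha, Category.assoc]
  exact (congrArg (fun t => s ≫ t) hκ).trans (hs.trans hκ.symm)

/-- Base change. -/
lemma IsAct.bc {a : M ⟶ M} (ha : IsAct u s a) {K' : D Y'} {g : X' ⟶ X}
    {u' : (⟨Y', K'⟩ : Tot) ⟶ ⟨X', (L g).obj M⟩} {γ : (⟨Y', K'⟩ : Tot) ⟶ ⟨Y, K⟩}
    {s' : (⟨Y', K'⟩ : Tot) ⟶ ⟨Y', K'⟩} (w : u' ≫ car ⟨X, M⟩ g = γ ≫ u) (hs : s' ≫ γ = γ ≫ s)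
    (hb : s'.base ≫ u'.base = u'.base) :
    IsAct u' s' ((L g).map a) := by
  apply (isC_car ⟨X, M⟩ g).hom_ext
  · refine Eq.trans (Category.comp_id _) ?_
    exact hb.symm
  · rw [Category.assoc]
    refine (congrArg (fun t => u' ≫ t) (car_v g a).symm).trans ?_
    rw [← Category.assoc, w, Category.assoc, show u ≫ v (x := ⟨X, M⟩) a = s ≫ u from ha,
      ← Category.assoc, ← hs, Category.assoc, Category.assoc, w]

lemma shiftArr_comp {C D : Type*} [Category* C] [Category* D] [HasShift C ℤ] [HasShift D ℤ]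
    {Φ : C ⥤ D} [Φ.CommShift ℤ] {M : C} {K K' : D} (ε : Φ.obj M ⟶ K) (φ : K ⟶ K') (n : ℤ) :
    shiftArr (ε ≫ φ) n = shiftArr ε n ≫ φ⟦n⟧' := by
  simp [shiftArr]

lemma shm_id (n : ℤ) (x : Tot.{u}) : shm n (𝟙 x) = 𝟙 (sh n x) := by
  have h := shm_comp n (𝟙 x) (𝟙 x)
  rw [Category.id_comp] at h
  have hC : IsC (shm n (𝟙 x)) :=
    isC_shm n (by rw [← v_id]; exact (isC_v _).2 inferInstance)
  apply hC.hom_ext
  · rfl
  · rw [← h, Category.id_comp]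

/-- Shift of vertical morphisms. -/
lemma shm_v (n : ℤ) {F G : D X} (φ : F ⟶ G) :
    shm n (v (x := ⟨X, G⟩) φ) = v (x := sh n ⟨X, G⟩) (φ⟦n⟧') := by
  have h3 : shiftArr ((Lid X).hom.app F) n = (Lid X).hom.app (F⟦n⟧) :=
    arr_injective (x := sh n ⟨X, F⟩) (y := sh n ⟨X, F⟩) (shm_id n ⟨X, F⟩)
  have h4 : shiftArr ((Lid X).hom.app F ≫ φ) n = (Lid X).hom.app (F⟦n⟧) ≫ φ⟦n⟧' := by
    rw [shiftArr_comp, h3]
  exact congrArg (arr (x := sh n ⟨X, G⟩) (y := sh n ⟨X, F⟩) (𝟙 X)) h4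

/-- Shift. -/
lemma IsAct.shift {a : M ⟶ M} (ha : IsAct u s a) (n : ℤ) :
    IsAct (shm n u) (shm n s) (a⟦n⟧') := by
  change shm n u ≫ v (x := sh n ⟨X, M⟩) (a⟦n⟧') = shm n s ≫ shm n u
  rw [← shm_v, ← shm_comp, ← shm_comp, show u ≫ v (x := ⟨X, M⟩) a = s ≫ u from ha]

end basic

section resolution

variable {U V Ut Vt Us Uts : Scheme.{u}}

/-- The local statement. `V ⟶ U` is the geometric generic fibre, `Vt ⟶ Ut` the one of a resolution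
`Ut ⟶ U`. -/
theorem local_eq_id {M T : D U} {K P : D V} {Kt : D Vt} {Mt : D Ut}
    {s : (⟨V, K⟩ : Tot) ⟶ ⟨V, K⟩} {u : (⟨V, K⟩ : Tot) ⟶ ⟨U, M⟩} (hu : IsU u) {a : M ⟶ M}
    (ha : IsAct u s a) {κt : (⟨Vt, Kt⟩ : Tot) ⟶ ⟨V, K⟩} {st : (⟨Vt, Kt⟩ : Tot) ⟶ ⟨Vt, Kt⟩}
    (hst : st ≫ κt = κt ≫ s) {ut : (⟨Vt, Kt⟩ : Tot) ⟶ ⟨Ut, Mt⟩} (hut : IsU ut) {at' : Mt ⟶ Mt}
    (hat : IsAct ut st at') {p : (⟨Vt, Kt⟩ : Tot) ⟶ ⟨V, P⟩} (hp : IsU p) {ε : K ⟶ P}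
    (hε : p ≫ v (x := ⟨V, P⟩) ε = κt) {r : P ⟶ K} (hr : ε ≫ r = 𝟙 K)
    {t : (⟨Ut, Mt⟩ : Tot) ⟶ ⟨U, T⟩} (ht : IsU t) (hb : ut.base ≫ t.base = p.base ≫ u.base)
    {i : Us ⟶ U} {it : Uts ⟶ Ut} {ts : (⟨Uts, (L it).obj Mt⟩ : Tot) ⟶ ⟨Us, (L i).obj T⟩}
    (hts : IsU ts) (w : ts ≫ car ⟨U, T⟩ i = car ⟨Ut, Mt⟩ it ≫ t)
    (h1 : (L it).map at' = 𝟙 _) : (L i).map a = 𝟙 _ := by
  have ha' : u ≫ v (x := ⟨U, M⟩) a = s ≫ u := ha
  have hat' : ut ≫ v (x := ⟨Ut, Mt⟩) at' = st ≫ ut := hat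
  have hpb : p.base = κt.base :=
    (Category.comp_id _).symm.trans (congrArg (fun t => t.base) hε)
  have hsb : s.base ≫ u.base = u.base :=
    (congrArg (fun t => t.base) ha').symm.trans (Category.comp_id _)
  have hstb : st.base ≫ κt.base = κt.base ≫ s.base := congrArg (fun t => t.base) hst
  -- the direct image of `P`
  obtain ⟨p', hp'b, hp'⟩ := hp.exists_desc (ut ≫ t) u.base hb.symm
  have hp'U : IsU p' := hp.of_comp (by rw [hp']; exact hut.comp ht)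
  -- the endomorphism of `P`
  obtain ⟨sP, hsPb, hsP⟩ := hp.exists_desc (st ≫ p) s.base (by
    rw [comp_base, hpb]; exact hstb.symm)
  have h3 : v (x := ⟨V, P⟩) ε ≫ s = sP ≫ v (x := ⟨V, P⟩) ε := by
    apply hp.hom_ext
    · exact (Category.id_comp _).trans (hsPb.symm.trans (Category.comp_id _).symm)
    · rw [← Category.assoc, hε, ← hst, ← Category.assoc, hsP, Category.assoc, hε]
  obtain ⟨b, hbb, hb'⟩ := hp'U.exists_desc (v (x := ⟨V, P⟩) ε ≫ u) (𝟙 U) (by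
    rw [hp'b]; exact (Category.comp_id _).trans (Category.id_comp _).symm)
  obtain ⟨β, rfl⟩ := exists_v (x := ⟨U, T⟩) b hbb
  obtain ⟨b', hbb', hb''⟩ := hu.exists_desc (v (x := ⟨V, K⟩) r ≫ p') (𝟙 U) (by
    refine (Category.comp_id _).trans ?_
    exact hp'b.symm.trans (Category.id_comp _).symm)
  obtain ⟨β', rfl⟩ := exists_v (x := ⟨U, M⟩) b' hbb'
  have h6 : β ≫ β' = 𝟙 M := by
    refine v_injective (x := ⟨U, M⟩) (hu.hom_ext (b := v (x := ⟨U, M⟩) (β ≫ β'))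
      (b' := v (x := ⟨U, M⟩) (𝟙 M)) rfl ?_)
    rw [← v_comp (x := ⟨U, M⟩) β' β, ← Category.assoc, hb'', Category.assoc, hb',
      ← Category.assoc, v_comp (x := ⟨V, K⟩) r ε, hr]
    exact ((congrArg (fun t => t ≫ u) (v_id ⟨V, K⟩)).trans (Category.id_comp u)).trans
      ((congrArg (fun t => u ≫ t) (v_id ⟨U, M⟩)).trans (Category.comp_id u)).symm
  obtain ⟨aT, haT⟩ := exists_isAct (u := p') (s := sP) hp'U (by rw [hsPb, hp'b, hsb])
  have haT' : p' ≫ v (x := ⟨U, T⟩) aT = sP ≫ p' := haT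
  have h8 : t ≫ v (x := ⟨U, T⟩) aT = v (x := ⟨Ut, Mt⟩) at' ≫ t := by
    apply hut.hom_ext
    · exact (Category.comp_id _).trans (Category.id_comp _).symm
    · rw [← Category.assoc, ← hp', Category.assoc, haT', ← Category.assoc, hsP, Category.assoc,
        hp', ← Category.assoc, ← hat', Category.assoc]
  have h9 : β ≫ aT = a ≫ β := by
    refine v_injective (x := ⟨U, T⟩) (hp'U.hom_ext (b := v (x := ⟨U, T⟩) (β ≫ aT))
      (b' := v (x := ⟨U, T⟩) (a ≫ β)) rfl ?_)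
    rw [← v_comp (x := ⟨U, T⟩) aT β, ← v_comp (x := ⟨U, T⟩) β a, ← Category.assoc, haT',
      Category.assoc, hb', ← Category.assoc, ← h3, Category.assoc, ← ha', ← Category.assoc, ← hb',
      Category.assoc]
  have h10 : (L i).map aT = 𝟙 _ := by
    refine v_injective (x := ⟨Us, (L i).obj T⟩) (hts.hom_ext
      (b := v (x := ⟨Us, (L i).obj T⟩) ((L i).map aT))
      (b' := v (x := ⟨Us, (L i).obj T⟩) (𝟙 _)) rfl ?_)
    apply (isC_car ⟨U, T⟩ i).hom_ext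
    · rfl
    · rw [Category.assoc, ← car_v, ← Category.assoc, w, Category.assoc, h8, ← Category.assoc, car_v,
        Category.assoc, ← w, h1]
      exact ((congrArg (fun t => t ≫ ts ≫ car ⟨U, T⟩ i) (v_id ⟨Uts, (L it).obj Mt⟩)).trans
        (Category.id_comp _)).trans ((congrArg (fun t => t ≫ car ⟨U, T⟩ i)
          ((congrArg (fun t => ts ≫ t) (v_id ⟨Us, (L i).obj T⟩)).trans (Category.comp_id ts))).symm)
  have h11 : a = β ≫ aT ≫ β' := by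
    rw [← Category.assoc, h9, Category.assoc, h6, Category.comp_id]
  rw [h11, Functor.map_comp, Functor.map_comp, h10, Category.id_comp, ← Functor.map_comp, h6,
    CategoryTheory.Functor.map_id]

end resolution

end Groth.Agent.Vancyc.H682.Act
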