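import Groth.Agent.Vancyc.H682.Inj
import Groth.Agent.Vancyc.H682.Act
import Groth.Agent.Sga4h.TotLoc

/-!
# Descent of the triviality of an endomorphism to an étale neighbourhood of the singular points

* `eq_zero_of_etale`: `v : C ⟶ M` with `C` supported on the closed subscheme `Z` vanishes if it vanishes on an
  étale neighbourhood of `Z`;
* `eq_id_of_etale`.
-/

set_option autoImplicit false
universe u
open CategoryTheory CategoryTheory.Limits AlgebraicGeometry Opposite DerivedCategory Pretriangulated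

namespace Groth.Agent.Vancyc.H682.Desc

open EtCoh Groth.Agent.Sga4h.LPull Groth.Agent.Sga4h.TotCat Groth.Agent.Sga4h.UnivTri
open Groth.Agent.Vancyc.H682.KillObj Groth.Agent.Vancyc.H682.HomVan Groth.Agent.Vancyc.H682.Inj
open Groth.Agent.Vancyc.H682.SingleAbs Groth.Agent.Vancyc.H682.Single

attribute [local instance] HasDerivedCategory.standard

variable {T W Z U : Scheme.{u}}

/-- `Hom(C, R w_* K⟦n⟧) = 0` if `w^* C = 0`. -/
lemma hom_eq_zero_of_isU {x y : Tot.{u}} {a : x ⟶ y} (ha : IsU a) {C : D y.X}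
    (hC : IsZero ((L a.base).obj C)) (n : ℤ) (f : C ⟶ y.K⟦n⟧) : f = 0 :=
  ((isU_shm n ha) C).1 (hC.eq_of_src _ _)

/-- A morphism out of an object supported on `Z` vanishes if it vanishes on an étale
neighbourhood of `Z`. -/
theorem eq_zero_of_etale (t : Z ⟶ T) [IsClosedImmersion t] (w : W ⟶ T) [IsOpenImmersion w]
    (hcov : ∀ q : T, q ∈ Set.range t ∨ q ∈ Set.range w)
    (hdisj : Disjoint (Set.range t) (Set.range w)) (φ : U ⟶ T) [Etale φ] (σ : Z ⟶ U)
    (hσ : σ ≫ φ = t) {C M : D T} (hC : IsZero ((L w).obj C)) (v' : C ⟶ M)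
    (hv : (L φ).map v' = 0) : v' = 0 := by
  -- `N = R w_* w^* M`
  obtain ⟨N, μ, hμ, hU⟩ := exists_isU (⟨W, (L w).obj M⟩ : Tot) w
  obtain ⟨ε, rfl⟩ := exists_arr μ hμ
  have hCar : IsIso ε := imm_of_isOpenImmersion w _ _ _ rfl hU
  obtain ⟨ν, hν⟩ := (hU M).2 (𝟙 _)
  have hν' : (L w).map ν ≫ ε = 𝟙 _ := hν
  have hνi : IsIso ((L w).map ν) := by
    have : (L w).map ν = inv ε := by rw [← cancel_mono ε, hν', IsIso.inv_hom_id]
    rw [this]
    infer_instance
  obtain ⟨F, f, h, hT⟩ := distinguished_cocone_triangle₁ ν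
  have hF : IsZero ((L w).obj F) :=
    (Triangle.isZero₁_iff_isIso₂ _ ((L w).map_distinguished _ hT)).2 hνi
  have h1 : v' ≫ ν = 0 := by
    apply (hU C).1
    exact hC.eq_of_src _ _
  obtain ⟨g, hg⟩ := Triangle.coyoneda_exact₂ _ hT v' h1
  -- `φ^* g = 0`
  have hg0 : (L φ).map g = 0 := by
    have h2 : (L φ).map g ≫ (L φ).map f = 0 := by
      have h3 : (L φ).map v' = (L φ).map g ≫ (L φ).map f :=
        (congrArg (L φ).map hg).trans ((L φ).map_comp g f)
      exact h3.symm.trans hv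
    obtain ⟨k, hk⟩ := Triangle.coyoneda_exact₂ _
      (inv_rot_of_distTriang _ ((L φ).map_distinguished _ hT)) ((L φ).map g) h2
    have hk0 : k = 0 := by
      have hP : IsPullback (pullback.snd φ w) (pullback.fst φ w) w φ :=
        (IsPullback.of_hasPullback φ w).flip
      obtain ⟨a', e, wa⟩ := exists_bc (x := ⟨W, (L w).obj M⟩) (y := ⟨T, N⟩)
        (arr (x := ⟨W, (L w).obj M⟩) (y := ⟨T, N⟩) w ε) φ (pullback.fst φ w) (pullback.snd φ w) hP.w
      have : Etale (car (⟨T, N⟩ : Tot) φ).base := inferInstanceAs (Etale φ)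
      have hU' : IsU a' := isU_etale (gY := φ) (gX := pullback.snd φ w) hU rfl rfl (isC_car _ _)
        (isC_car _ _) (e ▸ hP) wa
      refine hom_eq_zero_of_isU hU' (C := (L φ).obj C) ?_ (-1 : ℤ) k
      rw [e]
      have h4 : IsZero ((L (pullback.snd φ w)).obj ((L w).obj C)) :=
        (L (pullback.snd φ w)).map_isZero hC
      exact h4.of_iso (((Lcomp (rfl : pullback.fst φ w ≫ φ = _)).app C) ≪≫
        ((Lcomp (hP.w : pullback.snd φ w ≫ w = pullback.fst φ w ≫ φ)).app C).symm)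
    rw [hk, hk0]
    exact zero_comp
  -- `t^* g = 0`
  have ht : (L t).map g = 0 := by
    have h5 := (Lcomp hσ).hom.naturality g
    have h6 : (L φ ⋙ L σ).map g = 0 := by
      rw [Functor.comp_map, hg0, Functor.map_zero]
    rw [h6, zero_comp] at h5
    rw [← cancel_epi ((Lcomp hσ).hom.app C), comp_zero]
    exact h5.symm
  have hUt : IsU (car (⟨T, F⟩ : Tot) t) :=
    isU_of_isC (isC_car _ _) (imm_of_isClosedImmersion t) w hcov hdisj hF
  have hgz : g = 0 := by
    apply (hUt C).1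
    change (L t).map g ≫ 𝟙 _ = (L t).map 0 ≫ 𝟙 _
    rw [ht, Functor.map_zero]
  rw [hg, hgz]
  exact zero_comp

/-- An endomorphism of `M ∈ D^{≥ 0}` which fixes `η : F ⟶ M`, `F ∈ D^{≤ 0}`, is the identity if `η` is an
isomorphism off `Z` and the endomorphism is the identity on an étale neighbourhood of `Z`. -/
theorem eq_id_of_etale (t : Z ⟶ T) [IsClosedImmersion t] (w : W ⟶ T) [IsOpenImmersion w]
    (hcov : ∀ q : T, q ∈ Set.range t ∨ q ∈ Set.range w)
    (hdisj : Disjoint (Set.range t) (Set.range w)) (φ : U ⟶ T) [Etale φ] (σ : Z ⟶ U)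
    (hσ : σ ≫ φ = t) {F M : D T} [F.IsLE 0] [M.IsGE 0] (η : F ⟶ M) (hη : IsIso ((L w).map η))
    (a : M ⟶ M) (ha : η ≫ a = η) (h : (L φ).map a = 𝟙 _) : a = 𝟙 M := by
  obtain ⟨C, c, d, hT⟩ := distinguished_cocone_triangle η
  have hC : IsZero ((L w).obj C) :=
    (Triangle.isZero₃_iff_isIso₁ _ ((L w).map_distinguished _ hT)).2 hη
  have h1 : η ≫ (a - 𝟙 M) = 0 := by rw [Preadditive.comp_sub, ha, Category.comp_id, sub_self]
  obtain ⟨k, hk⟩ := Triangle.yoneda_exact₂ _ hT (a - 𝟙 M) h1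
  have hk' : a - 𝟙 M = c ≫ k := hk
  have h2 : (L φ).map c ≫ (L φ).map k = 0 := by
    rw [← Functor.map_comp, ← hk', Functor.map_sub, h, CategoryTheory.Functor.map_id, sub_self]
  obtain ⟨l, hl⟩ := Triangle.yoneda_exact₃ _ ((L φ).map_distinguished _ hT) ((L φ).map k) h2
  have hl0 : l = 0 := by
    have hL := isLE_L φ F 0
    have hG := isGE_L φ M 0
    have h3 : DerivedCategory.IsLE (((L φ).obj F)⟦(1 : ℤ)⟧) (-1) :=
      TStructure.t.isLE_shift ((L φ).obj F) 0 1 (-1) (by lia)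
    exact @hom_eq_zero_of_isLE_isGE _ _ _ _ _ _ l (-1) 0 (by lia) h3 hG
  have hk0 : (L φ).map k = 0 := by
    rw [hl, hl0]
    exact comp_zero
  have := eq_zero_of_etale t w hcov hdisj φ σ hσ hC k hk0
  rw [this, comp_zero] at hk'
  exact sub_eq_zero.1 hk'

end Groth.Agent.Vancyc.H682.Desc
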