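import Groth.Agent.Vancyc.H682.GalD

/-!
# Local triviality of the Galois action

`LocTriv f σ N`: `σ` acts as the identity on `i^* R j_* (ZMod N)` for `f : X ⟶ Spec R`.
-/

set_option autoImplicit false
universe u
open CategoryTheory CategoryTheory.Limits AlgebraicGeometry Opposite DerivedCategory

namespace Groth.Agent.Vancyc.H682.Loc

open EtCoh Groth.Agent.Sga4h.LPull Groth.Agent.Sga4h.TotCat Groth.Agent.Sga4h.UnivTri
open Groth.Agent.Vancyc.H682.SingleAbs Groth.Agent.Vancyc.H682.Single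
open Groth.Agent.Vancyc.H682.Act Groth.Agent.Vancyc.H682.GalD VanCyc

attribute [local instance] HasDerivedCategory.standard

/-- `σ` acts trivially on the nearby cycles of `f` with coefficients `ZMod N`. -/
def LocTriv {R K Ω : Type u} [CommRing R] [IsLocalRing R] [Field K] [Algebra R K] [Field Ω] [Algebra K Ω]
    [Algebra R Ω] [IsScalarTower R K Ω] {X : Scheme.{u}} (f : X ⟶ Spec (CommRingCat.of R))
    (σ : Ω ≃ₐ[K] Ω) (N : ℕ) : Prop :=
  ∀ (M : D X) (u : ofS ((pull (jA R f Ω)).obj (const X (ZMod N))) ⟶ ⟨X, M⟩)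
    (_ : u.base = jA R f Ω) (_ : IsU u) (a : M ⟶ M)
    (_ : IsAct u (sHat (galGeom f σ) (jA R f Ω) (galGeom_jA f σ) (const X (ZMod N))) a),
    (L (icl R f)).map a = 𝟙 _

end Groth.Agent.Vancyc.H682.Loc
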