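import Groth.Agent.Vancyc.H682.ConstArr
import Groth.Agent.Vancyc.H682.Loc

/-!
# Étale localization of `LocTriv`
-/

set_option autoImplicit false
universe u
open CategoryTheory CategoryTheory.Limits AlgebraicGeometry Opposite DerivedCategory

namespace Groth.Agent.Vancyc.H682.LocEt

open EtCoh Groth.Agent.Sga4h.LPull Groth.Agent.Sga4h.TotCat
open Groth.Agent.Vancyc.H682.SingleAbs Groth.Agent.Vancyc.H682.Single
open Groth.Agent.Vancyc.H682.Act Groth.Agent.Vancyc.H682.GalD Groth.Agent.Vancyc.H682.ConstArr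
open Groth.Agent.Vancyc.H682.Loc VanCyc

attribute [local instance] HasDerivedCategory.standard

variable {X U V V' Xs Us : Scheme.{u}}

/-- Two realizations of the derived direct image and of the action are isomorphic. -/
lemma exists_iso_of_isAct {x : Tot.{u}} {M M' : D X} {u : x ⟶ ⟨X, M⟩} {u' : x ⟶ ⟨X, M'⟩}
    (hu : IsU u) (hu' : IsU u') (hb : u.base = u'.base) {s : x ⟶ x} {a : M ⟶ M} {a' : M' ⟶ M'}
    (ha : u ≫ v (x := ⟨X, M⟩) a = s ≫ u) (ha' : u' ≫ v (x := ⟨X, M'⟩) a' = s ≫ u') :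
    ∃ φ : M' ≅ M, a' ≫ φ.hom = φ.hom ≫ a := by
  obtain ⟨d, hd, hd'⟩ := hu.exists_desc u' (𝟙 X) (by rw [hb]; exact Category.comp_id _)
  obtain ⟨φ, rfl⟩ := exists_v (x := ⟨X, M⟩) d hd
  have hφ : IsIso φ := (isU_v (x := ⟨X, M⟩) φ).1 (hu.of_comp (by rw [hd']; exact hu'))
  change M' ⟶ M at φ
  refine ⟨asIso φ, ?_⟩
  refine v_injective (x := ⟨X, M⟩) (hu.hom_ext (b := v (x := ⟨X, M⟩) (a' ≫ φ))
    (b' := v (x := ⟨X, M⟩) (φ ≫ a)) rfl ?_)
  rw [← v_comp (x := ⟨X, M⟩) φ a', ← v_comp (x := ⟨X, M⟩) a φ, ← Category.assoc, ← Category.assoc,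
    hd', ha, Category.assoc, hd']
  exact ha'

/-- The action on `R j_* Λ` is compatible with étale base change. -/
theorem exists_act_iso {j : V ⟶ X} {s : V ⟶ V} (w : s ≫ j = j) {q : U ⟶ X} [Etale q] {j' : V' ⟶ U}
    {s' : V' ⟶ V'} (w' : s' ≫ j' = j') {gX : V' ⟶ V} (hP : IsPullback gX j' j q)
    (hs : s' ≫ gX = gX ≫ s) (Λ : Type) [AddCommGroup Λ]
    {M : D X} {u : ofS ((pull j).obj (const X Λ)) ⟶ ⟨X, M⟩} (hub : u.base = j) (hu : IsU u)
    {a : M ⟶ M} (ha : IsAct u (sHat s j w (const X Λ)) a)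
    {M' : D U} {u' : ofS ((pull j').obj (const U Λ)) ⟶ ⟨U, M'⟩} (hub' : u'.base = j') (hu' : IsU u')
    {a' : M' ⟶ M'} (ha' : IsAct u' (sHat s' j' w' (const U Λ)) a') :
    ∃ φ : M' ≅ (L q).obj M, a' ≫ φ.hom = φ.hom ≫ (L q).map a := by
  obtain ⟨γ, hγb, hγ⟩ := (isC_jHat j (const X Λ)).exists_lift (jHat j' (const U Λ) ≫ cz Λ q) gX
    hP.w
  have hγC : IsC γ := IsC.of_comp (isC_jHat j (const X Λ)) (by
    rw [hγ]; exact (isC_jHat _ _).comp (isC_cz _ _))
  have hsγ : sHat s' j' w' (const U Λ) ≫ γ = γ ≫ sHat s j w (const X Λ) := by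
    apply (isC_jHat j (const X Λ)).hom_ext
    · rw [comp_base, comp_base, hγb]
      exact hs
    · rw [Category.assoc, hγ, Category.assoc, sHat_jHat, hγ, ← Category.assoc, sHat_jHat]
  obtain ⟨u'', hub'', hw⟩ := (isC_car ⟨X, M⟩ q).exists_lift (γ ≫ u) j' (by
    rw [comp_base, hγb, hub]
    exact hP.w.symm)
  have hu'' : IsU u'' := isU_etale (gY := q) (gX := gX) hu hγb rfl hγC (isC_car _ _)
    (by rw [hub'', hub]; exact hP) hw
  have ha'' : IsAct u'' (sHat s' j' w' (const U Λ)) ((L q).map a) := ha.bc hw hsγ (by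
    rw [hub'']; exact w')
  exact exists_iso_of_isAct hu'' hu' (by rw [hub'', hub']) ha'' ha'

/-- Transport of triviality along composition. -/
lemma map_map_eq_id {q : U ⟶ X} {i' : Us ⟶ U} {i : Xs ⟶ X} {qs : Us ⟶ Xs} (h : i' ≫ q = qs ≫ i)
    {M : D X} {a : M ⟶ M} (ha : (L i).map a = 𝟙 _) : (L i').map ((L q).map a) = 𝟙 _ := by
  have h1 := (Lcomp h).inv.naturality a
  have h2 := (Lcomp (rfl : qs ≫ i = qs ≫ i)).inv.naturality a
  rw [Functor.comp_map, ha, CategoryTheory.Functor.map_id] at h2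
  have h3 : (L (qs ≫ i)).map a = 𝟙 _ := by
    rw [← cancel_mono ((Lcomp (rfl : qs ≫ i = qs ≫ i)).inv.app M), h2, Category.id_comp]
    exact Category.comp_id _
  rw [h3, Category.id_comp] at h1
  rw [← cancel_epi ((Lcomp h).inv.app M)]
  exact h1.symm.trans (Category.comp_id _).symm

lemma map_eq_id_of_iso {U Us : Scheme.{u}} (i' : Us ⟶ U) {M M' : D U} {a : M ⟶ M} {a' : M' ⟶ M'}
    (φ : M' ≅ M) (h : a' ≫ φ.hom = φ.hom ≫ a) (ha : (L i').map a = 𝟙 _) :
    (L i').map a' = 𝟙 _ := by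
  have h1 : a' = φ.hom ≫ a ≫ φ.inv := by
    rw [← Category.assoc, ← h, Category.assoc, φ.hom_inv_id, Category.comp_id]
  rw [h1, Functor.map_comp, Functor.map_comp, ha, Category.id_comp, ← Functor.map_comp,
    φ.hom_inv_id, CategoryTheory.Functor.map_id]

section LT

variable {R K Ω : Type u} [CommRing R] [IsLocalRing R] [Field K] [Algebra R K] [Field Ω] [Algebra K Ω]
    [Algebra R Ω] [IsScalarTower R K Ω] {f : X ⟶ Spec (CommRingCat.of R)} {σ : Ω ≃ₐ[K] Ω} {N : ℕ}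

/-- The map of geometric generic fibres. -/
noncomputable def fibMap (q : U ⟶ X) (f : X ⟶ Spec (CommRingCat.of R)) :
    fib R (q ≫ f) Ω ⟶ fib R f Ω :=
  pullback.map (q ≫ f) (toS R Ω) f (toS R Ω) q (𝟙 _) (𝟙 _) (by rw [Category.comp_id])
    (by rw [Category.comp_id, Category.id_comp])

omit [IsLocalRing R] in
lemma isPullback_fibMap (q : U ⟶ X) (f : X ⟶ Spec (CommRingCat.of R)) :
    IsPullback (fibMap (Ω := Ω) q f) (jA R (q ≫ f) Ω) (jA R f Ω) q := by
  have h1 : IsPullback (jA R f Ω) (pullback.snd f (toS R Ω)) f (toS R Ω) := IsPullback.of_hasPullback _ _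
  have h2 : IsPullback (jA R (q ≫ f) Ω) (fibMap (Ω := Ω) q f ≫ pullback.snd f (toS R Ω)) (q ≫ f)
      (toS R Ω) := by
    have h3 : fibMap (Ω := Ω) q f ≫ pullback.snd f (toS R Ω) = pullback.snd (q ≫ f) (toS R Ω) := by
      rw [fibMap, pullback.map, pullback.lift_snd, Category.comp_id]
    rw [h3]
    exact IsPullback.of_hasPullback _ _
  have h4 : fibMap (Ω := Ω) q f ≫ jA R f Ω = jA R (q ≫ f) Ω ≫ q := by
    rw [fibMap, jA, pullback.map, pullback.lift_fst]
  exact IsPullback.of_right h2.flip h4 h1.flip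

omit [IsLocalRing R] in
lemma galGeom_fibMap (q : U ⟶ X) (f : X ⟶ Spec (CommRingCat.of R)) (σ : Ω ≃ₐ[K] Ω) :
    galGeom (q ≫ f) σ ≫ fibMap (Ω := Ω) q f = fibMap (Ω := Ω) q f ≫ galGeom f σ := by
  apply pullback.hom_ext
  · simp only [galGeom, fibMap, pullback.map, Category.assoc, pullback.lift_fst,
      pullback.lift_fst_assoc, Category.comp_id]
  · simp only [galGeom, fibMap, pullback.map, Category.assoc, pullback.lift_snd,
      pullback.lift_snd_assoc, Category.comp_id]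

/-- The map of special fibres. -/
noncomputable def spMap (q : U ⟶ X) (f : X ⟶ Spec (CommRingCat.of R)) :
    spFib R (q ≫ f) ⟶ spFib R f :=
  pullback.map (q ≫ f) (toSk R) f (toSk R) q (𝟙 _) (𝟙 _) (by rw [Category.comp_id])
    (by rw [Category.comp_id, Category.id_comp])

lemma icl_spMap (q : U ⟶ X) (f : X ⟶ Spec (CommRingCat.of R)) :
    icl R (q ≫ f) ≫ q = spMap q f ≫ icl R f := by
  rw [spMap, icl, pullback.map, pullback.lift_fst]

/-- `LocTriv` is stable under étale base change. -/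
theorem locTriv_of_etale (q : U ⟶ X) [Etale q] (h : LocTriv f σ N) : LocTriv (q ≫ f) σ N := by
  intro M' u' hub' hu' a' ha'
  obtain ⟨M, u, hub, hu⟩ := exists_isU (ofS ((pull (jA R f Ω)).obj (const X (ZMod N)))) (jA R f Ω)
  obtain ⟨a, ha⟩ := exists_isAct (s := sHat (galGeom f σ) (jA R f Ω) (galGeom_jA f σ)
    (const X (ZMod N))) hu (by rw [hub]; exact galGeom_jA f σ)
  obtain ⟨φ, hφ⟩ := exists_act_iso (galGeom_jA f σ) (q := q) (galGeom_jA (q ≫ f) σ)
    (isPullback_fibMap q f) (galGeom_fibMap q f σ) (ZMod N) hub hu ha hub' hu' ha'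
  exact map_eq_id_of_iso _ φ hφ (map_map_eq_id (icl_spMap q f) (h M u hub hu a ha))

end LT

end Groth.Agent.Vancyc.H682.LocEt
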