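import Groth.Agent.Vancyc.H682.SingleAbs
import Groth.Agent.Sga4h.UnivTri
import Mathlib.Algebra.Homology.DerivedCategory.Ext.Map

/-!
# Ext classes, exact functors and morphisms in the derived category
-/

set_option autoImplicit false

open CategoryTheory CategoryTheory.Limits DerivedCategory Abelian

namespace Groth.Agent.Vancyc.H682.SingleAbs

open Groth.Agent.Sga4h.UnivTri

universe v₁ v₂ u₁ u₂ w₁ w₂ t₁ t₂

variable {A : Type u₁} [Category.{v₁} A] [Abelian A] {B : Type u₂} [Category.{v₂} B] [Abelian B]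
  [HasDerivedCategory.{w₁} A] [HasDerivedCategory.{w₂} B] [HasExt.{t₁} A] [HasExt.{t₂} B]

/-- The image of an Ext class under an exact functor, in the derived category. -/
lemma sfib_hom_ext (Φ : A ⥤ B) [Φ.Additive] [PreservesFiniteLimits Φ] [PreservesFiniteColimits Φ]
    {A₀ G : A} {B₀ G' : B} (b : Φ.obj A₀ ≅ B₀) (α : Φ.obj G ⟶ G') {n : ℕ} (ξ : Ext A₀ G n) :
    sfib Φ b.hom ≫
      (((Ext.mk₀ b.inv).comp (ξ.mapExactFunctor Φ) (zero_add n)).comp (Ext.mk₀ α)
        (add_zero n)).hom =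
    Φ.mapDerivedCategory.map ξ.hom ≫ shiftArr (sfib Φ α) (n : ℤ) := by
  have e1 : (s0m Φ A₀).hom = (Φ.mapDerivedCategorySingleFunctor 0).hom.app A₀ := rfl
  have e2 : (s0m Φ G).hom = (Φ.mapDerivedCategorySingleFunctor 0).hom.app G := rfl
  rw [sfib, sfib, Ext.comp_hom, Ext.comp_hom, Ext.mk₀_hom, Ext.mk₀_hom, ShiftedHom.mk₀_comp,
    ShiftedHom.comp_mk₀, Ext.mapExactFunctor_hom, shiftArr, e1, e2, ShiftedHom.map]
  simp only [Category.assoc, Functor.map_comp]
  rw [← (singleFunctor B 0).map_comp_assoc b.hom, b.hom_inv_id, CategoryTheory.Functor.map_id,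
    Category.id_comp]
  erw [Iso.hom_inv_id_app_assoc]

end Groth.Agent.Vancyc.H682.SingleAbs
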