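import Groth.Agent.Sga4h.TotCx
import Groth.Agent.EtpbcB.HRel
import Groth.Agent.Etrest.DEtMate

/-!
# Comparison of two coherence isomorphisms for inverse images

`theta_hom_app`: `Etcore.PullCoh.theta` and `Sga4h.LPull.pcomp` agree.
-/

set_option autoImplicit false
universe u
open CategoryTheory CategoryTheory.Limits AlgebraicGeometry Opposite DerivedCategory

namespace Groth.Agent.Vancyc.H682.Theta

open EtCoh Groth.Agent.Sga4h.LPull Groth.Agent.Etcore.PullCoh Groth.Agent.Sga4h.TotCat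

variable {X Y Z : Scheme.{u}}

lemma pullComp_inv_app (f : X ⟶ Y) (t : Y ⟶ Z) (G : Ab Z) :
    (EtCore.pullComp f t).inv.app G = (pcomp (rfl : f ≫ t = f ≫ t)).hom.app G := by
  have h := Adjunction.unit_leftAdjointUniq_hom_app
    (((EtCoh.pullPushAdj t).comp (EtCoh.pullPushAdj f)).ofNatIsoRight (EtCoh.pushComp t f))
    (EtCoh.pullPushAdj (f ≫ t)) G
  have h2 := unit_pcomp (rfl : f ≫ t = f ≫ t) G
  let adj := ((EtCoh.pullPushAdj t).comp (EtCoh.pullPushAdj f)).ofNatIsoRight (EtCoh.pushComp t f)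
  apply (adj.homEquiv G ((pull (f ≫ t)).obj G)).injective
  rw [Adjunction.homEquiv_unit, Adjunction.homEquiv_unit]
  refine h.trans (h2.trans ?_)
  have h4 : adj.unit.app G = ((EtCoh.pullPushAdj t).comp (EtCoh.pullPushAdj f)).unit.app G ≫
      (EtCoh.pushComp t f).hom.app _ := by
    simp [adj]
  rw [h4, Adjunction.comp_unit_app]
  have h5 : (pushC (rfl : f ≫ t = f ≫ t)).hom.app ((pull (f ≫ t)).obj G) =
      (EtCoh.pushComp t f).hom.app ((pull (f ≫ t)).obj G) := by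
    rw [pushC, Iso.trans_hom, NatTrans.comp_app, Groth.Agent.Etrest.DEtMate.pushCongr_rfl]
    exact Category.comp_id _
  have h6 := (EtCoh.pushComp t f).hom.naturality
    ((pcomp (rfl : f ≫ t = f ≫ t)).hom.app G)
  rw [h5]
  simp only [Category.assoc]
  exact congrArg (fun k => (pullPushAdj t).unit.app G ≫
    (push t).map ((pullPushAdj f).unit.app ((pull t).obj G)) ≫ k) h6

lemma theta_hom_app {f : X ⟶ Y} {t : Y ⟶ Z} {f₀ : X ⟶ Z} (w : f ≫ t = f₀) (G : Ab Z) :
    (theta f t f₀ w).hom.app G = (pcomp w).hom.app G := by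
  subst w
  rw [theta_rfl_hom_app, pullComp_inv_app]

lemma pcomp_inv_th {f : X ⟶ Y} {t : Y ⟶ Z} {f₀ : X ⟶ Z} (w : f ≫ t = f₀) (G : Ab Z) :
    (pcomp w).inv.app G ≫ th f t f₀ w G = 𝟙 _ := by
  have : th f t f₀ w G = (pcomp w).hom.app G := theta_hom_app w G
  rw [this]
  exact Iso.inv_hom_id_app _ _

/-- Coherence of `pullConst`. -/
lemma pc_coh {f : X ⟶ Y} {t : Y ⟶ Z} {f₀ : X ⟶ Z} (w : f ≫ t = f₀) :
    (pcomp w).inv.app (const Z ℤ) ≫ (pull f).map (EtCore.pullConst t ℤ).hom ≫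
      (EtCore.pullConst f ℤ).hom = (EtCore.pullConst f₀ ℤ).hom := by
  have h := Groth.Agent.EtpbcB.HRel.pc_comp f t f₀ w
  rw [theta_hom_app w] at h
  rw [← cancel_epi ((pcomp w).hom.app (const Z ℤ)), Iso.hom_inv_id_app_assoc,
    ← cancel_mono (EtCore.pullConst f₀ ℤ).inv, Category.assoc, Category.assoc,
    Iso.hom_inv_id, Category.comp_id, ← h, Iso.hom_inv_id_assoc, ← Functor.map_comp_assoc,
    Iso.hom_inv_id, CategoryTheory.Functor.map_id, Category.id_comp]

end Groth.Agent.Vancyc.H682.Theta
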