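import Groth.Agent.Vancyc.H682.Single
import Groth.Agent.Vancyc.H682.Act
import Groth.Agent.Vancyc.H682.ExtHom
import Groth.Agent.Vancyc.H682.Theta
import Groth.Prelude.Def_VanCyc

/-!
# The Galois action on cohomology through the derived direct image

`hpullVia_eq_self`: if the endomorphism of `R j_* j^* F` induced by `s` fixes all classes
`ℤ ⟶ R j_* j^* F⟦q⟧` then `HpullVia s j j` is the identity on `H^q(V, j^* F)`.
-/

set_option autoImplicit false
universe u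
open CategoryTheory CategoryTheory.Limits AlgebraicGeometry Opposite DerivedCategory Abelian

namespace Groth.Agent.Vancyc.H682.GalD

open EtCoh Groth.Agent.Sga4h.LPull Groth.Agent.Sga4h.TotCat Groth.Agent.Sga4h.UnivTri
open Groth.Agent.Etcore.PullCoh Groth.Agent.Vancyc.H682.SingleAbs Groth.Agent.Vancyc.H682.Single
open Groth.Agent.Vancyc.H682.Act Groth.Agent.Vancyc.H682.Theta

attribute [local instance] HasDerivedCategory.standard

variable {V X Y Z : Scheme.{u}}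

/-- The cartesian arrow of constant sheaves. -/
noncomputable def zc (f : X ⟶ Y) : ofS (const X ℤ) ⟶ ofS (const Y ℤ) :=
  sa f (EtCore.pullConst f ℤ).hom

@[simp] lemma zc_base (f : X ⟶ Y) : (zc f).base = f := rfl

lemma zc_comp {f : X ⟶ Y} {g : Y ⟶ Z} {k : X ⟶ Z} (w : f ≫ g = k) : zc f ≫ zc g = zc k :=
  (sa_comp w _ _).trans (congrArg (sa k) (pc_coh w))

lemma isC_zc (f : X ⟶ Y) : IsC (zc f) := isC_sa f _

/-- The cartesian arrow `(V, j^* F) ⟶ (X, F)`. -/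
noncomputable def jHat (j : V ⟶ X) (F : Ab X) : ofS ((pull j).obj F) ⟶ ofS F := sa j (𝟙 _)

@[simp] lemma jHat_base (j : V ⟶ X) (F : Ab X) : (jHat j F).base = j := rfl

lemma isC_jHat (j : V ⟶ X) (F : Ab X) : IsC (jHat j F) := isC_sa j _

/-- The lift of `s`. -/
noncomputable def sHat (s : V ⟶ V) (j : V ⟶ X) (w : s ≫ j = j) (F : Ab X) :
    ofS ((pull j).obj F) ⟶ ofS ((pull j).obj F) := sa s (th s j j w F)

@[simp] lemma sHat_base (s : V ⟶ V) (j : V ⟶ X) (w : s ≫ j = j) (F : Ab X) :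
    (sHat s j w F).base = s := rfl

lemma sHat_jHat (s : V ⟶ V) (j : V ⟶ X) (w : s ≫ j = j) (F : Ab X) :
    sHat s j w F ≫ jHat j F = jHat j F := by
  refine (sa_comp w _ _).trans (congrArg (sa j) ?_)
  rw [CategoryTheory.Functor.map_id]
  exact (congrArg (fun t => (pcomp w).inv.app F ≫ t) (Category.id_comp _)).trans (pcomp_inv_th w F)

lemma zc_fib (f : X ⟶ Y) : (zc f).fib = sf f (EtCore.pullConst f ℤ).hom := rfl

lemma sHat_fib (s : V ⟶ V) (j : V ⟶ X) (w : s ≫ j = j) (F : Ab X) :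
    (sHat s j w F).fib = sf s (th s j j w F) := rfl

lemma sf_hom_ext (s : X ⟶ Y) {F : Ab Y} {G : Ab X} (α : (pull s).obj F ⟶ G) (q : ℕ)
    (ξ : EtCoh.H Y F q) :
    sf s (EtCore.pullConst s ℤ).hom ≫
      (((Ext.mk₀ (EtCore.pullConst s ℤ).inv).comp (ξ.mapExactFunctor (pull s)) (zero_add q)).comp
        (Ext.mk₀ α) (add_zero q)).hom = (L s).map ξ.hom ≫ shiftArr (sf s α) (q : ℤ) :=
  sfib_hom_ext (pull s) (EtCore.pullConst s ℤ) α ξ

lemma hpullVia_fib (s : V ⟶ V) (j : V ⟶ X) (w : s ≫ j = j) (F : Ab X) (q : ℕ)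
    (ξ : EtCoh.H V ((pull j).obj F) q) :
    (zc s).fib ≫ (EtCore.HpullVia s j j w F q ξ).hom =
      (L s).map ξ.hom ≫ shiftArr (sHat s j w F).fib (q : ℤ) := by
  rw [Groth.Agent.EtpbcB.HRel.HpullVia_eq, Groth.Agent.Sga4B.ExtCmp.cmp_apply, zc_fib, sHat_fib]
  exact sf_hom_ext s (th s j j w F) q ξ

/-- Relative pullback in the total category. -/
lemma hpullVia_tot (s : V ⟶ V) (j : V ⟶ X) (w : s ≫ j = j) (F : Ab X) (q : ℕ)
    (ξ : EtCoh.H V ((pull j).obj F) q) :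
    v (x := sh (q : ℤ) (ofS ((pull j).obj F))) (EtCore.HpullVia s j j w F q ξ).hom ≫ zc s =
      shm (q : ℤ) (sHat s j w F) ≫ v (x := sh (q : ℤ) (ofS ((pull j).obj F))) ξ.hom := by
  refine (v_comp' (x := sh (q : ℤ) (ofS ((pull j).obj F)))
    (EtCore.HpullVia s j j w F q ξ).hom (zc s)).trans (Eq.trans ?_
      (comp_v (shm (q : ℤ) (sHat s j w F)) ξ.hom).symm)
  exact congrArg (arr (x := sh (q : ℤ) (ofS ((pull j).obj F))) (y := ofS (const V ℤ)) s)
    (hpullVia_fib s j w F q ξ)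

/-- The Galois action is trivial if it is trivial on the derived direct image. -/
theorem hpullVia_eq_self (s : V ⟶ V) (j : V ⟶ X) (w : s ≫ j = j) (F : Ab X) (q : ℕ) {M : D X}
    {u : ofS ((pull j).obj F) ⟶ ⟨X, M⟩} (hub : u.base = j) (hu : IsU u) {a : M ⟶ M}
    (ha : IsAct u (sHat s j w F) a)
    (h : ∀ ψ : S0 (const X ℤ) ⟶ M⟦(q : ℤ)⟧, ψ ≫ a⟦(q : ℤ)⟧' = ψ) :
    EtCore.HpullVia s j j w F q = AddMonoidHom.id _ := by
  ext1 ξ
  have hU := isU_shm (q : ℤ) hu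
  obtain ⟨b, hb, hb'⟩ := hU.exists_desc
    (v (x := sh (q : ℤ) (ofS ((pull j).obj F))) ξ.hom ≫ zc j) (𝟙 X) (by
      refine (Category.comp_id _).trans ?_
      exact hub.trans (Category.id_comp j).symm)
  obtain ⟨ψ, rfl⟩ := exists_v (x := sh (q : ℤ) ⟨X, M⟩) b hb
  have ha' := ha.shift (q : ℤ)
  have ha'' : shm (q : ℤ) u ≫ v (x := sh (q : ℤ) ⟨X, M⟩) (a⟦(q : ℤ)⟧') =
    shm (q : ℤ) (sHat s j w F) ≫ shm (q : ℤ) u := ha'
  have key : v (x := sh (q : ℤ) (ofS ((pull j).obj F))) (EtCore.HpullVia s j j w F q ξ).hom ≫ zc j =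
      v (x := sh (q : ℤ) (ofS ((pull j).obj F))) ξ.hom ≫ zc j := by
    rw [← zc_comp w, ← Category.assoc, hpullVia_tot, Category.assoc, zc_comp w, ← hb',
      ← Category.assoc, ← ha'', Category.assoc, v_comp (x := sh (q : ℤ) ⟨X, M⟩) (a⟦(q : ℤ)⟧') ψ, h]
  have key2 := (isC_zc j).hom_ext (b := v (x := sh (q : ℤ) (ofS ((pull j).obj F)))
    (EtCore.HpullVia s j j w F q ξ).hom) (b' := v (x := sh (q : ℤ) (ofS ((pull j).obj F))) ξ.hom)
    rfl key
  exact Ext.ext (v_injective key2)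

end Groth.Agent.Vancyc.H682.GalD
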