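import Groth.Agent.Sga4h.ExMap

/-!
# Complexes concentrated in degree zero and composition of functors
-/

set_option autoImplicit false
set_option linter.unusedSectionVars false

open CategoryTheory CategoryTheory.Limits DerivedCategory

namespace Groth.Agent.Vancyc.H682.SingleAbs

open Groth.Agent.Sga4h.ExMap Groth.Agent.PerfB.DQAdj

universe v₁ v₂ v₃ u₁ u₂ u₃

variable {A : Type u₁} [Category.{v₁} A] [Abelian A] {B : Type u₂} [Category.{v₂} B] [Abelian B]
  {C : Type u₃} [Category.{v₃} C] [Abelian C]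

/-- The complex concentrated in degree zero. -/
noncomputable abbrev sg (A : Type u₁) [Category.{v₁} A] [Abelian A] : A ⥤ CochainComplex A ℤ :=
  HomologicalComplex.single A (ComplexShape.up ℤ) 0

/-- `F (X[0]) ≅ (F X)[0]`. -/
noncomputable def sgm (F : A ⥤ B) [F.Additive] (X : A) :
    (cx F).obj ((sg A).obj X) ≅ (sg B).obj (F.obj X) :=
  (HomologicalComplex.singleMapHomologicalComplex F (ComplexShape.up ℤ) 0).app X

@[reassoc]
lemma sgm_hom_f (F : A ⥤ B) [F.Additive] (X : A) : (sgm F X).hom.f 0 =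
    F.map (HomologicalComplex.singleObjXSelf (ComplexShape.up ℤ) 0 X).hom ≫
      (HomologicalComplex.singleObjXSelf (ComplexShape.up ℤ) 0 (F.obj X)).inv :=
  HomologicalComplex.singleMapHomologicalComplex_hom_app_self F (ComplexShape.up ℤ) 0 X

lemma sgm_aux {F : A ⥤ B} {G : B ⥤ C} {H : A ⥤ C} (e : F ⋙ G ≅ H) {X₀ X : A} {Y₀ Y F₀ : B}
    {Z₀ Z G₀ H₀ : C} (a : X₀ ≅ X) (y : Y₀ ≅ Y) (z : Z₀ ≅ Z) (f : F₀ ≅ F.obj X) (g : G₀ ≅ G.obj Y)
    (h : H₀ ≅ H.obj X) (ψ : F.obj X ⟶ Y) (φ : G.obj Y ⟶ Z) :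
    e.inv.app X₀ ≫ G.map ((F.map a.hom ≫ f.inv) ≫ (f.hom ≫ ψ ≫ y.inv)) ≫ (G.map y.hom ≫ g.inv) ≫
      (g.hom ≫ φ ≫ z.inv) =
    (H.map a.hom ≫ h.inv) ≫ (h.hom ≫ (e.inv.app X ≫ G.map ψ ≫ φ) ≫ z.inv) := by
  have h1 := e.inv.naturality a.hom
  simp only [Functor.map_comp, Category.assoc, Iso.inv_hom_id_assoc]
  rw [reassoc_of% h1, ← G.map_comp_assoc y.inv, Iso.inv_hom_id, G.map_id, Category.id_comp]

lemma sgm_comp {F : A ⥤ B} {G : B ⥤ C} {H : A ⥤ C} [F.Additive] [G.Additive]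
    [H.Additive] (e : F ⋙ G ≅ H) {X : A} {Y : B} {Z : C} (ψ : F.obj X ⟶ Y) (φ : G.obj Y ⟶ Z) :
    (cxComp e ((sg A).obj X)).inv ≫ (cx G).map ((sgm F X).hom ≫ (sg B).map ψ) ≫
      (sgm G Y).hom ≫ (sg C).map φ =
    (sgm H X).hom ≫ (sg C).map (e.inv.app X ≫ G.map ψ ≫ φ) := by
  apply HomologicalComplex.to_single_hom_ext
  simp only [HomologicalComplex.comp_f, Functor.mapHomologicalComplex_map_f, cxComp_inv_f,
    sgm_hom_f, HomologicalComplex.single_map_f_self]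
  exact sgm_aux e _ _ _ _ _ _ ψ φ

section der

open Groth.Agent.Dcoh.MapDer

universe w₁ w₂ w₃

variable [HasDerivedCategory.{w₁} A] [HasDerivedCategory.{w₂} B] [HasDerivedCategory.{w₃} C]

/-- An object in degree zero, as an object of the derived category. -/
noncomputable abbrev s0 (A : Type u₁) [Category.{v₁} A] [Abelian A] [HasDerivedCategory.{w₁} A] :
    A ⥤ DerivedCategory A := DerivedCategory.singleFunctor A 0

/-- `F (X[0]) ≅ (F X)[0]` in the derived category. -/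
noncomputable def s0m (F : A ⥤ B) [F.Additive] [PreservesFiniteLimits F] [PreservesFiniteColimits F]
    (X : A) : F.mapDerivedCategory.obj ((s0 A).obj X) ≅ (s0 B).obj (F.obj X) :=
  (F.mapDerivedCategorySingleFunctor 0).app X

lemma s0m_hom (F : A ⥤ B) [F.Additive] [PreservesFiniteLimits F] [PreservesFiniteColimits F]
    (X : A) : (s0m F X).hom = (fac F ((sg A).obj X)).hom ≫ Q.map (sgm F X).hom :=
  (Iso.inv_comp_eq (fac F ((sg A).obj X))).1
    (Functor.mapDerivedCategoryFactors_inv_app_mapDerivedCategorySingleFunctor_hom_app F X)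

lemma s0m_comp {F : A ⥤ B} {G : B ⥤ C} {H : A ⥤ C}
    [F.Additive] [PreservesFiniteLimits F] [PreservesFiniteColimits F]
    [G.Additive] [PreservesFiniteLimits G] [PreservesFiniteColimits G]
    [H.Additive] [PreservesFiniteLimits H] [PreservesFiniteColimits H]
    (e : F ⋙ G ≅ H) {X : A} {Y : B} {Z : C} (ψ : F.obj X ⟶ Y) (φ : G.obj Y ⟶ Z) :
    (mapDerCompIso e).inv.app ((s0 A).obj X) ≫
      G.mapDerivedCategory.map ((s0m F X).hom ≫ (s0 B).map ψ) ≫
      (s0m G Y).hom ≫ (s0 C).map φ =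
    (s0m H X).hom ≫ (s0 C).map (e.inv.app X ≫ G.map ψ ≫ φ) := by
  have e0 : (mapDerCompIso e).inv.app ((s0 A).obj X) = _ :=
    mapDerCompIso_inv_app_Q e ((sg A).obj X)
  rw [e0, s0m_hom, s0m_hom, s0m_hom]
  have e1 : (s0 B).map ψ = Q.map ((sg B).map ψ) := rfl
  have e2 : (s0 C).map φ = Q.map ((sg C).map φ) := rfl
  have e3 : (s0 C).map (e.inv.app X ≫ G.map ψ ≫ φ) =
    Q.map ((sg C).map (e.inv.app X ≫ G.map ψ ≫ φ)) := rfl
  rw [e1, e2, e3]
  have k1 : ((fac F ((sg A).obj X)).hom ≫ Q.map (sgm F X).hom) ≫ Q.map ((sg B).map ψ) =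
      (fac F ((sg A).obj X)).hom ≫ Q.map ((sgm F X).hom ≫ (sg B).map ψ) := by
    rw [Category.assoc, ← Q.map_comp]
  have k2 : ((fac G ((sg B).obj Y)).hom ≫ Q.map (sgm G Y).hom) ≫ Q.map ((sg C).map φ) =
      (fac G ((sg B).obj Y)).hom ≫ Q.map ((sgm G Y).hom ≫ (sg C).map φ) := by
    rw [Category.assoc, ← Q.map_comp]
  have k3 := congrArg (fun t => (fac H ((sg A).obj X)).hom ≫ Q.map t) (sgm_comp e ψ φ)
  beta_reduce at k3
  refine Eq.trans ?_ (k3.trans ?_)
  · refine (congrArg₂ (fun a b => (((fac H ((sg A).obj X)).hom ≫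
      Q.map (cxComp e ((sg A).obj X)).inv ≫ (fac G ((cx F).obj ((sg A).obj X))).inv ≫
        G.mapDerivedCategory.map (fac F ((sg A).obj X)).inv) ≫
          G.mapDerivedCategory.map a ≫ b)) k1 k2).trans ?_
    simp only [Category.assoc, Functor.map_comp]
    rw [← G.mapDerivedCategory.map_comp_assoc (fac F ((sg A).obj X)).inv, Iso.inv_hom_id,
      CategoryTheory.Functor.map_id, Category.id_comp, map_fac_hom_assoc, map_fac_hom_assoc]
    rw [Iso.inv_hom_id_assoc]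
  · rw [Q.map_comp]
    exact (Category.assoc _ _ _).symm

/-- The morphism `F (X[0]) ⟶ Y[0]` given by `φ : F X ⟶ Y`. -/
noncomputable def sfib (F : A ⥤ B) [F.Additive] [PreservesFiniteLimits F]
    [PreservesFiniteColimits F] {X : A} {Y : B} (φ : F.obj X ⟶ Y) :
    F.mapDerivedCategory.obj ((s0 A).obj X) ⟶ (s0 B).obj Y :=
  (s0m F X).hom ≫ (s0 B).map φ

lemma isIso_sfib (F : A ⥤ B) [F.Additive] [PreservesFiniteLimits F] [PreservesFiniteColimits F]
    {X : A} {Y : B} (φ : F.obj X ⟶ Y) [IsIso φ] : IsIso (sfib F φ) := by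
  unfold sfib
  infer_instance

lemma sfib_comp {F : A ⥤ B} {G : B ⥤ C} {H : A ⥤ C}
    [F.Additive] [PreservesFiniteLimits F] [PreservesFiniteColimits F]
    [G.Additive] [PreservesFiniteLimits G] [PreservesFiniteColimits G]
    [H.Additive] [PreservesFiniteLimits H] [PreservesFiniteColimits H]
    (e : F ⋙ G ≅ H) {X : A} {Y : B} {Z : C} (ψ : F.obj X ⟶ Y) (φ : G.obj Y ⟶ Z) :
    (mapDerCompIso e).inv.app ((s0 A).obj X) ≫ G.mapDerivedCategory.map (sfib F ψ) ≫ sfib G φ =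
      sfib H (e.inv.app X ≫ G.map ψ ≫ φ) :=
  s0m_comp e ψ φ

end der

end Groth.Agent.Vancyc.H682.SingleAbs
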