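import Groth.Agent.Sga4h.TotCx
import Groth.Agent.Vancyc.H682.SingleAbs

/-!
# Sheaves in degree zero in the total category

* `sa f φ : (X, A[0]) ⟶ (Y, B[0])` for `φ : f⁻¹ B ⟶ A`; `sa_comp`, `isC_sa`, `sa_fib`.
-/

set_option autoImplicit false
universe u
open CategoryTheory CategoryTheory.Limits AlgebraicGeometry Opposite DerivedCategory

namespace Groth.Agent.Vancyc.H682.Single

open EtCoh Groth.Agent.Sga4h.LPull Groth.Agent.Sga4h.ExMap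
open Groth.Agent.Sga4h.TotCat Groth.Agent.Dcoh.MapDer
open Groth.Agent.Vancyc.H682.SingleAbs

attribute [local instance] HasDerivedCategory.standard

variable {W X Y Z : Scheme.{u}}

/-- A sheaf in degree zero. -/
noncomputable abbrev S0 {X : Scheme.{u}} (A : Ab X) : D X := (s0 (Ab X)).obj A

/-- A sheaf in degree zero as an object of the total category. -/
noncomputable abbrev ofS {X : Scheme.{u}} (A : Ab X) : Tot.{u} := ⟨X, S0 A⟩

/-- The morphism `f^* (B[0]) ⟶ A[0]` given by `φ : f⁻¹ B ⟶ A`. -/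
noncomputable def sf (f : X ⟶ Y) {A : Ab X} {B : Ab Y} (φ : (pull f).obj B ⟶ A) :
    (L f).obj (S0 B) ⟶ S0 A := sfib (pull f) φ

lemma isIso_sf (f : X ⟶ Y) {A : Ab X} {B : Ab Y} (φ : (pull f).obj B ⟶ A) [IsIso φ] :
    IsIso (sf f φ) :=
  isIso_sfib (pull f) φ

lemma sf_comp {f : X ⟶ Y} {g : Y ⟶ Z} {k : X ⟶ Z} (w : f ≫ g = k) {A : Ab X} {B : Ab Y}
    {C : Ab Z} (φ : (pull f).obj B ⟶ A) (ψ : (pull g).obj C ⟶ B) :
    (Lcomp w).inv.app (S0 C) ≫ (L f).map (sf g ψ) ≫ sf f φ =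
      sf k ((pcomp w).inv.app C ≫ (pull f).map ψ ≫ φ) :=
  sfib_comp (pcomp w) ψ φ

/-- The arrow of the total category given by `φ : f⁻¹ B ⟶ A`. -/
noncomputable def sa (f : X ⟶ Y) {A : Ab X} {B : Ab Y} (φ : (pull f).obj B ⟶ A) :
    ofS A ⟶ ofS B :=
  arr (x := ofS A) (y := ofS B) f (sf f φ)

@[simp] lemma sa_base (f : X ⟶ Y) {A : Ab X} {B : Ab Y} (φ : (pull f).obj B ⟶ A) :
    (sa f φ).base = f := rfl

lemma sa_fib (f : X ⟶ Y) {A : Ab X} {B : Ab Y} (φ : (pull f).obj B ⟶ A) :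
    (sa f φ).fib = sf f φ := rfl

lemma isC_sa (f : X ⟶ Y) {A : Ab X} {B : Ab Y} (φ : (pull f).obj B ⟶ A) [IsIso φ] :
    IsC (sa f φ) := isIso_sf f φ

lemma sa_comp {f : X ⟶ Y} {g : Y ⟶ Z} {k : X ⟶ Z} (w : f ≫ g = k) {A : Ab X} {B : Ab Y}
    {C : Ab Z} (φ : (pull f).obj B ⟶ A) (ψ : (pull g).obj C ⟶ B) :
    sa f φ ≫ sa g ψ = sa k ((pcomp w).inv.app C ≫ (pull f).map ψ ≫ φ) :=
  (comp_arr (sa f φ) (sa g ψ) w).trans
    (congrArg (arr (x := ofS A) (y := ofS C) k) (sf_comp w φ ψ))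

end Groth.Agent.Vancyc.H682.Single
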