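import Groth.Agent.Vancyc.H682.KillObj
import Groth.Agent.Vancyc.H682.Single
import Groth.Agent.Sga4h.TotImm
import Groth.Agent.EtpbcB.TorsionBasic

/-!
# Étale sheaves: killed objects, left exactness, and injectivity of restriction to the closed fibre

* `kill_of_isU`, `isGE_of_isU`;
* `eq_zero_of_pull`: a morphism `ℤ ⟶ M` is zero if its restriction to the closed fibre is zero.
-/

set_option autoImplicit false
universe u
open CategoryTheory CategoryTheory.Limits AlgebraicGeometry Opposite DerivedCategory Pretriangulated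

namespace Groth.Agent.Vancyc.H682.Inj

open EtCoh Groth.Agent.Sga4h.LPull Groth.Agent.Sga4h.TotCat Groth.Agent.Sga4h.UnivTri
open Groth.Agent.Vancyc.H682.KillObj Groth.Agent.Vancyc.H682.HomVan
open Groth.Agent.Vancyc.H682.SingleAbs Groth.Agent.Vancyc.H682.Single

attribute [local instance] HasDerivedCategory.standard

variable {X Y Z : Scheme.{u}} {n m : ℕ}

lemma kill_of_isU {x y : Tot.{u}} {a : x ⟶ y} (ha : IsU a) (h : Kill n x.K) : Kill n y.K := by
  apply (ha y.K).1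
  dsimp only
  rw [Functor.map_nsmul, Functor.map_zero, zero_comp, Preadditive.nsmul_comp]
  exact h.nsmul_right _

lemma kill_L (f : X ⟶ Y) {K : D Y} (h : Kill n K) : Kill n ((L f).obj K) := h.map (L f)

lemma isLE_L (f : X ⟶ Y) (K : D Y) (b : ℤ) [K.IsLE b] : DerivedCategory.IsLE ((L f).obj K) b :=
  Groth.Agent.Dcoh.MapDer.isLE_map (pull f) b K

lemma isGE_L (f : X ⟶ Y) (K : D Y) (b : ℤ) [K.IsGE b] : DerivedCategory.IsGE ((L f).obj K) b :=
  Groth.Agent.Dcoh.MapDer.isGE_map (pull f) b K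

lemma isGE_of_isU {x y : Tot.{u}} {a : x ⟶ y} (ha : IsU a) (b : ℤ) (h : DerivedCategory.IsGE x.K b) :
    DerivedCategory.IsGE y.K b := by
  apply isGE_of_forall
  intro N hN f
  apply (ha N).1
  dsimp only
  rw [Functor.map_zero, zero_comp]
  have := isLE_L a.base N (b - 1)
  exact hom_eq_zero_of_isLE_isGE _ (b - 1) b (by lia)

lemma isTorsion_homology {K : D X} (hn : 0 < n) (h : Kill n K) (i : ℤ) :
    EtCoh.IsTorsion ((homologyFunctor (Ab X) i).obj K) := by
  apply Groth.Agent.EtpbcB.TorsionBasic.isTorsion_of_killedBy hn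
  rw [Groth.Agent.EtpbcB.TorsionBasic.killedBy_iff]
  exact h.map (homologyFunctor (Ab X) i)

/-- A morphism `ℤ ⟶ M` is zero if its restriction along `i : X₀ ⟶ X` is zero, provided the
cohomology of torsion sheaves on `X` with zero restriction vanishes. -/
theorem eq_zero_of_pull {X₀ : Scheme.{u}} (i : X₀ ⟶ X) [IsClosedImmersion i]
    (hV : ∀ G : Ab X, EtCoh.IsTorsion G → IsZero ((pull i).obj G) →
      ∀ p : ℕ, Subsingleton (EtCoh.H X G p))
    (M : D X) (a : ℤ) [M.IsGE a] (hn : 0 < n) (hM : Kill n M) (ψ : S0 (const X ℤ) ⟶ M)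
    (hψ : (L i).map ψ = 0) : ψ = 0 := by
  obtain ⟨N, w, hw, hU⟩ := exists_isU (⟨X₀, (L i).obj M⟩ : Tot) i
  obtain ⟨ε, rfl⟩ := exists_arr w hw
  have hC : IsIso ε := imm_of_isClosedImmersion i _ _ _ rfl hU
  obtain ⟨ν, hν⟩ := (hU M).2 (𝟙 _)
  have hν' : (L i).map ν ≫ ε = 𝟙 _ := hν
  have hνi : IsIso ((L i).map ν) := by
    have : (L i).map ν = inv ε := by rw [← cancel_mono ε, hν', IsIso.inv_hom_id]
    rw [this]
    infer_instance
  have h1 : ψ ≫ ν = 0 := by
    apply (hU _).1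
    change (L i).map (ψ ≫ ν) ≫ ε = (L i).map 0 ≫ ε
    rw [Functor.map_comp, hψ, zero_comp, Functor.map_zero]
  obtain ⟨C, c, d, hT⟩ := distinguished_cocone_triangle ν
  have hC0 : IsZero ((L i).obj C) :=
    (Triangle.isZero₃_iff_isIso₁ _ ((L i).map_distinguished _ hT)).2 hνi
  have hKN : Kill n N := kill_of_isU hU (kill_L i hM)
  have hKC : Kill (n * n) C := Kill.three hT hM hKN
  have hGM := isGE_L i M a
  have hGN : N.IsGE a := isGE_of_isU hU a hGM
  have hGC : C.IsGE (a - 1) := by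
    have h3 : (M⟦(1 : ℤ)⟧).IsGE (a - 1) := TStructure.t.isGE_shift M a 1 (a - 1) (by lia)
    have h4 : N.IsGE (a - 1) := TStructure.t.isGE_of_ge N (a - 1) a (by lia)
    exact TStructure.t.isGE₂ _ (rot_of_distTriang _ hT) (a - 1) h4 h3
  -- `ψ` comes from `C⟦-1⟧`
  obtain ⟨g, hg⟩ := Triangle.coyoneda_exact₂ _ (inv_rot_of_distTriang _ hT) ψ h1
  have hg0 : g = 0 := by
    have hGC' : DerivedCategory.IsGE (C⟦(-1 : ℤ)⟧) a :=
      TStructure.t.isGE_shift C (a - 1) (-1) a (by lia)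
    refine hom_eq_zero (const X ℤ) (C⟦(-1 : ℤ)⟧) a (fun q p => ?_) g
    refine hV _ (isTorsion_homology (by positivity) (hKC.map (shiftFunctor _ (-1 : ℤ))) q) ?_ p
    have h5 : IsZero ((L i).obj (C⟦(-1 : ℤ)⟧)) :=
      ((shiftFunctor (D X₀) (-1 : ℤ)).map_isZero hC0).of_iso (((L i).commShiftIso (-1 : ℤ)).app C)
    exact ((homologyFunctor (Ab X₀) q).map_isZero h5).of_iso
      (Groth.Agent.Dcoh.MapDer.homologyMapDerApp (pull i) q (C⟦(-1 : ℤ)⟧)).symm
  rw [hg, hg0]
  exact zero_comp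

end Groth.Agent.Vancyc.H682.Inj
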