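import Groth.Agent.Vancyc.H682.UnitAbs
import Groth.Agent.Vancyc.H682.Inj
import Groth.Agent.Vancyc.H682.GalD
import Groth.Agent.Etcore.Stalks
import Groth.Agent.Etbase.StalkPull
import Groth.Agent.Sga4h.RPairDer

/-!
# The unit `F ⟶ R j_* j^* F` on points where vanishing cycles are zero

* `isIso_L_unit`: `x^* η` is an isomorphism if `x^* F ⟶ x^* j_* j^* F` is and `x^* R^q j_* j^* F = 0`, `q ≥ 1`;
* `isIso_L_unit_of_stalks`: the same with stalks.
-/

set_option autoImplicit false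
universe u
open CategoryTheory CategoryTheory.Limits AlgebraicGeometry Opposite DerivedCategory

namespace Groth.Agent.Vancyc.H682.UnitEt

open EtCoh Groth.Agent.Sga4h.LPull Groth.Agent.Sga4h.TotCat Groth.Agent.Sga4h.UnivTri
open Groth.Agent.Vancyc.H682.SingleAbs Groth.Agent.Vancyc.H682.Single
open Groth.Agent.Vancyc.H682.Act Groth.Agent.Vancyc.H682.GalD Groth.Agent.Vancyc.H682.Inj

attribute [local instance] HasDerivedCategory.standard

variable {V X T : Scheme.{u}}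

lemma isGE_S0 (F : Ab X) : DerivedCategory.IsGE (S0 F) 0 :=
  inferInstanceAs (DerivedCategory.IsGE ((singleFunctor (Ab X) 0).obj F) 0)

lemma isLE_S0 (F : Ab X) : DerivedCategory.IsLE (S0 F) 0 :=
  inferInstanceAs (DerivedCategory.IsLE ((singleFunctor (Ab X) 0).obj F) 0)

lemma isIso_L_unit_aux (j : V ⟶ X) (F : Ab X) {M : D X} (ε : (L j).obj M ⟶ S0 ((pull j).obj F))
    (hu : IsU (arr (x := ofS ((pull j).obj F)) (y := ⟨X, M⟩) j ε)) (η : S0 F ⟶ M)
    (hη : (L j).map η ≫ ε = sf j (𝟙 _)) (x : T ⟶ X)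
    (h0 : IsIso ((pull x).map ((pullPushAdj j).unit.app F)))
    (hq : ∀ q : ℕ, 0 < q → IsZero ((pull x).obj ((homologyFunctor (Ab X) (q : ℤ)).obj M))) :
    IsIso ((L x).map η) := by
  have hG : DerivedCategory.IsGE M 0 := isGE_of_isU hu 0 (isGE_S0 _)
  exact UnitAbs.isIso_map_unit (pullPushAdj j) (pull x) F ε hu η hη h0 hq

/-- `H^q(M) ≅ R^q j_* G` for `M = R j_* G`. -/
lemma nonempty_homology_iso (j : V ⟶ X) (G : Ab V) {M : D X} (ε : (L j).obj M ⟶ S0 G)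
    (hu : IsU (arr (x := ofS G) (y := ⟨X, M⟩) j ε)) (q : ℕ) :
    Nonempty ((homologyFunctor (Ab X) (q : ℤ)).obj M ≅ (Rpush j q).obj G) :=
  Groth.Agent.Sga4h.RPair.nonempty_homology_iso (pullPushAdj j) (X := G) (ε := ε) hu q

/-- The unit is an isomorphism after pullback. -/
theorem isIso_L_unit {j : V ⟶ X} (F : Ab X) {M : D X} {u : ofS ((pull j).obj F) ⟶ ⟨X, M⟩}
    (hub : u.base = j) (hu : IsU u) {η : S0 F ⟶ M} (hη : u ≫ v (x := ⟨X, M⟩) η = jHat j F)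
    (x : T ⟶ X) (h0 : IsIso ((pull x).map ((pullPushAdj j).unit.app F)))
    (hq : ∀ q : ℕ, 0 < q → IsZero ((pull x).obj ((Rpush j q).obj ((pull j).obj F)))) :
    IsIso ((L x).map η) := by
  obtain ⟨ε, rfl⟩ := exists_arr u hub
  refine isIso_L_unit_aux j F ε hu η ?_ x h0 fun q hq' => ?_
  · exact arr_injective ((comp_v (arr (x := ofS ((pull j).obj F)) (y := ⟨X, M⟩) j ε) η).symm.trans hη)
  · obtain ⟨e⟩ := nonempty_homology_iso j _ ε hu q
    exact (hq q hq').of_iso ((pull x).mapIso e)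

/-- No vanishing cycles at the geometric point `ζ`. -/
def AcycAt {Ω : Type u} [Field Ω] [IsSepClosed Ω] (ζ : Spec (CommRingCat.of Ω) ⟶ X) (j : V ⟶ X)
    (F : Ab X) : Prop :=
  IsIso ((stalk ζ).map ((pullPushAdj j).unit.app F)) ∧
    ∀ q : ℕ, 0 < q → IsZero ((stalk ζ).obj ((Rpush j q).obj ((pull j).obj F)))

theorem isIso_L_unit_of_stalks {j : V ⟶ X} (F : Ab X) {M : D X}
    {u : ofS ((pull j).obj F) ⟶ ⟨X, M⟩}
    (hub : u.base = j) (hu : IsU u) {η : S0 F ⟶ M} (hη : u ≫ v (x := ⟨X, M⟩) η = jHat j F)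
    (x : T ⟶ X) (h : ∀ (Ω : Type u) [Field Ω] [IsSepClosed Ω]
      (ζ : Spec (CommRingCat.of Ω) ⟶ T), AcycAt (ζ ≫ x) j F) :
    IsIso ((L x).map η) := by
  refine isIso_L_unit F hub hu hη x ?_ fun q hq => ?_
  · apply Etcore.Stalks.isIso_of_stalks
    intro t
    obtain ⟨Ω, i1, i2, ζ, hζ⟩ := Etcore.Stalks.exists_geom t
    refine ⟨Ω, i1, i2, ζ, hζ, ?_⟩
    exact (NatIso.isIso_map_iff (Groth.Agent.Etbase.StalkPull.stalkPullIso x ζ) _).1 (h Ω ζ).1
  · apply Etcore.Stalks.isZero_of_stalks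
    intro t
    obtain ⟨Ω, i1, i2, ζ, hζ⟩ := Etcore.Stalks.exists_geom t
    refine ⟨Ω, i1, i2, ζ, hζ, ?_⟩
    exact ((h Ω ζ).2 q hq).of_iso ((Groth.Agent.Etbase.StalkPull.stalkPullIso x ζ).app _).symm

end Groth.Agent.Vancyc.H682.UnitEt
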