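import Groth.Agent.Vancyc.H700.Main0
import Groth.Agent.Vancyc.H699.Dim0

/-!
# The action of inertia in relative dimension zero
-/

set_option autoImplicit false
universe u
open CategoryTheory CategoryTheory.Limits AlgebraicGeometry
open VanCyc

namespace Groth.Agent.Vancyc.H682.Zero

section comb

variable {P S : Type*} (φ : P → S)

lemma two (h : ∀ x, Nat.card {y : P // φ y = x} ≤ 2) [Finite P] {a b c : P} (h1 : φ a = φ b)
    (h2 : φ a = φ c) : a = b ∨ b = c ∨ a = c := by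
  by_contra hn
  push Not at hn
  obtain ⟨n1, n2, n3⟩ := hn
  have h3 := h (φ a)
  let g : Fin 3 → {y : P // φ y = φ a} := ![⟨a, rfl⟩, ⟨b, h1.symm⟩, ⟨c, h2.symm⟩]
  have hg : Function.Injective g := by
    intro i j hij
    fin_cases i <;> fin_cases j <;> simp_all [g, Subtype.ext_iff]
  have h4 := Nat.card_le_card_of_injective g hg
  rw [Nat.card_eq_fintype_card (α := Fin 3), Fintype.card_fin] at h4
  omega

variable (h : ∀ x, Nat.card {y : P // φ y = x} ≤ 2) [Finite P] {s t : P → P}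
  (hs : Function.Injective s) (hsφ : ∀ y, φ (s y) = φ y)
  (ht : Function.Injective t) (htφ : ∀ y, φ (t y) = φ y)

include h hs hsφ in
lemma invol (y : P) : s (s y) = y := by
  rcases two φ h (a := y) (b := s y) (c := s (s y)) (hsφ y).symm
    (by rw [hsφ, hsφ]) with h1 | h1 | h1
  · rw [← h1, ← h1]
  · have := hs h1
    rw [← this, ← this]
  · exact h1.symm

include h hs hsφ ht htφ in
lemma comm (y : P) : s (t y) = t (s y) := by
  have hss := invol φ h hs hsφ
  have htt := invol φ h ht htφ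
  have key : ∀ (s t : P → P) (_ : Function.Injective s) (_ : ∀ y, φ (s y) = φ y)
      (_ : ∀ y, φ (t y) = φ y) (_ : ∀ y, s (s y) = y), y = s y → s (t y) = t (s y) := by
    intro s t hs hsφ htφ hss h1
    rcases two φ h (a := y) (b := t y) (c := s (t y)) (htφ y).symm
      (by rw [hsφ, htφ]) with h2 | h2 | h2
    · rw [← h2, ← h1, ← h2]
    · rw [← h1, ← h2]
    · have h4 : t y = y := hs (h2.symm.trans h1)
      rw [h4, ← h1, h4]
  rcases two φ h (a := y) (b := s y) (c := t y) (hsφ y).symm (htφ y).symm with h1 | h1 | h1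
  · exact key s t hs hsφ htφ hss h1
  · rw [h1, htt, ← h1, hss]
  · exact (key t s ht htφ hsφ htt h1).symm

end comb

/-- S4000 in relative dimension zero. -/
theorem main (R K Ω : Type u) [CommRing R] [IsDomain R] [IsDiscreteValuationRing R]
    (hR : EtCoh.IsStrictlyHenselianLocalRing R) [Field K] [Algebra R K] [Field Ω]
    [IsSepClosed Ω] [Algebra K Ω] [Algebra R Ω] [IsScalarTower R K Ω]
    {X : Scheme.{u}} (f : X ⟶ Spec (CommRingCat.of R)) [IsProper f] [Flat f]
    (hη : SmoothOfRelativeDimension 0 (VanCyc.fibStr R f K))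
    (Sing : Finset ↥(VanCyc.spFib R f)) (hSc : ∀ x ∈ Sing, IsClosed ({x} : Set ↥(VanCyc.spFib R f)))
    (hSq : ∀ x ∈ Sing, VanCyc.IsOrdQuadPt (VanCyc.resHom (VanCyc.spStr R f) x) 0)
    (U : (VanCyc.spFib R f).Opens) (hU : ∀ x : ↥(VanCyc.spFib R f), x ∉ Sing → x ∈ U)
    (hUs : SmoothOfRelativeDimension 0 (U.ι ≫ VanCyc.spStr R f))
    (N : ℕ) (σ τ : Ω ≃ₐ[K] Ω) [PreservesFiniteLimits (EtCoh.pull (VanCyc.galGeom f σ))]
    [PreservesFiniteLimits (EtCoh.pull (VanCyc.galGeom f τ))] :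
    (VanCyc.galH f σ (EtCoh.const X (ZMod N)) 0).comp (VanCyc.galH f σ (EtCoh.const X (ZMod N)) 0) =
        AddMonoidHom.id _ ∧
      (VanCyc.galH f σ (EtCoh.const X (ZMod N)) 0).comp (VanCyc.galH f τ (EtCoh.const X (ZMod N)) 0) =
        (VanCyc.galH f τ (EtCoh.const X (ZMod N)) 0).comp (VanCyc.galH f σ (EtCoh.const X (ZMod N)) 0) := by
  obtain ⟨hfin, r, hr⟩ := H699.Dim0.geo R K Ω hR f hη Sing hSc hSq U hU hUs
  obtain ⟨E, hE⟩ := H700.Main0.exists_equiv (K := K) (Ω := Ω) f N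
  have hφ : ∀ (ρ : Ω ≃ₐ[K] Ω) (y : ↥(VanCyc.fib R f Ω)),
      r ((VanCyc.jA R f Ω).base (VanCyc.galGeom f ρ y)) = r ((VanCyc.jA R f Ω).base y) := fun ρ y => by
    congr 1
    change (VanCyc.galGeom f ρ ≫ VanCyc.jA R f Ω) y = _
    rw [VanCyc.galGeom_jA]
  constructor
  · ext a
    apply E.injective
    funext y
    change E (VanCyc.galH f σ (EtCoh.const X (ZMod N)) 0 (VanCyc.galH f σ (EtCoh.const X (ZMod N)) 0 a)) y =
      E a y
    rw [hE, hE, invol (fun y => r ((VanCyc.jA R f Ω).base y)) (fun x => (hr x).1)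
      (H700.Main0.galGeom_injective f σ) (hφ σ) y]
  · ext a
    apply E.injective
    funext y
    change E (VanCyc.galH f σ (EtCoh.const X (ZMod N)) 0 (VanCyc.galH f τ (EtCoh.const X (ZMod N)) 0 a)) y =
      E (VanCyc.galH f τ (EtCoh.const X (ZMod N)) 0 (VanCyc.galH f σ (EtCoh.const X (ZMod N)) 0 a)) y
    rw [hE, hE, hE, hE, comm (fun y => r ((VanCyc.jA R f Ω).base y)) (fun x => (hr x).1)
      (H700.Main0.galGeom_injective f σ) (hφ σ) (H700.Main0.galGeom_injective f τ) (hφ τ) y]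

end Groth.Agent.Vancyc.H682.Zero
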