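import Groth.Agent.S1964
import Groth.Prelude.Def_EtBase
import Mathlib.FieldTheory.IsSepClosed
import Mathlib.RingTheory.Adjoin.FG
import Mathlib.RingTheory.IntegralClosure.IsIntegralClosure.Basic

/-!
# The roots of a quadratic polynomial over a strictly henselian ring

* `exists_roots`: the roots `α ≠ β` of `T² + b T + c` in a separably closed field;
* `galois_roots`: an automorphism permutes them;
* `RS R α β = R[α, β]`: finite over `R`, strictly henselian.
-/

set_option autoImplicit false
universe u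

namespace Groth.Agent.Vancyc.H682.AlgR

open Polynomial

section Field

variable {k Ω : Type*} [CommRing k] [Field Ω] [IsSepClosed Ω] [Algebra k Ω]

theorem exists_roots (b c : k) (hd : algebraMap k Ω (b ^ 2 - 4 * c) ≠ 0) :
    ∃ α β : Ω, algebraMap k Ω b = -(α + β) ∧ algebraMap k Ω c = α * β ∧ α - β ≠ 0 := by
  set b' := algebraMap k Ω b with hb'
  set c' := algebraMap k Ω c with hc'
  have hd' : b' ^ 2 - 4 * c' ≠ 0 := by
    rw [hb', hc']
    have h4 : algebraMap k Ω 4 = 4 := map_ofNat _ 4
    rw [map_sub, map_mul, map_pow, h4] at hd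
    exact hd
  let p : Polynomial Ω := X ^ 2 + C b' * X + C c'
  have hder : derivative p = C 2 * X + C b' := by
    simp only [p, derivative_add, derivative_X_pow, derivative_mul, derivative_C, derivative_X]
    simp
  have hsep : p.Separable := by
    rw [separable_def']
    refine ⟨C (-4 / (b' ^ 2 - 4 * c')), C (1 / (b' ^ 2 - 4 * c')) * (C 2 * X + C b'), ?_⟩
    rw [hder]
    have h1 : C (-4 / (b' ^ 2 - 4 * c')) * p + C (1 / (b' ^ 2 - 4 * c')) * (C 2 * X + C b') *
        (C 2 * X + C b') = C (1 / (b' ^ 2 - 4 * c')) * (C (-4) * p + (C 2 * X + C b') *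
        (C 2 * X + C b')) := by
      have : C (-4 / (b' ^ 2 - 4 * c')) = C (1 / (b' ^ 2 - 4 * c')) * C (-4) := by
        rw [← C_mul]; congr 1; ring
      rw [this]; ring
    rw [h1]
    have h2 : C (-4) * p + (C 2 * X + C b') * (C 2 * X + C b') = C (b' ^ 2 - 4 * c') := by
      simp only [p, map_sub, map_mul, map_pow, map_neg]
      have h4 : (C (4 : Ω) : Polynomial Ω) = 4 := map_ofNat _ 4
      have h5 : (C (2 : Ω) : Polynomial Ω) = 2 := map_ofNat _ 2
      rw [h4, h5]
      ring
    rw [h2, ← C_mul, one_div, inv_mul_cancel₀ hd', C_1]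
  have hdeg : p.degree ≠ 0 := by
    have : p.degree = 2 := by
      simp only [p]
      compute_degree!
    rw [this]; decide
  obtain ⟨α, hα⟩ := IsSepClosed.exists_root p hdeg hsep
  have hα' : α ^ 2 + b' * α + c' = 0 := by
    simpa [p] using hα
  refine ⟨α, -b' - α, by ring, by linear_combination hα', ?_⟩
  intro h
  apply hd'
  have h1 : b' = -(2 * α) := by linear_combination h
  have h2 : c' = α ^ 2 := by linear_combination hα' - α * h1
  rw [h1, h2]
  ring

omit [IsSepClosed Ω] in
/-- A root is one of the two. -/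
theorem eq_or_eq {b c : k} {α β : Ω} (hb : algebraMap k Ω b = -(α + β))
    (hc : algebraMap k Ω c = α * β) (σ : Ω →ₐ[k] Ω) :
    (σ α = α ∧ σ β = β) ∨ (σ α = β ∧ σ β = α) := by
  have h1 : σ α + σ β = α + β := by
    have := σ.commutes b
    rw [hb, map_neg, map_add] at this
    exact neg_injective this
  have h2 : σ α * σ β = α * β := by
    have := σ.commutes c
    rwa [hc, map_mul] at this
  have h3 : (σ α - α) * (σ α - β) = 0 := by
    have : (σ α - α) * (σ α - β) = σ α ^ 2 - (α + β) * σ α + α * β := by ring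
    rw [this, ← h1, ← h2]
    ring
  rcases mul_eq_zero.1 h3 with h | h
  · have h4 : σ α = α := sub_eq_zero.1 h
    exact Or.inl ⟨h4, by rw [h4] at h1; exact add_left_cancel h1⟩
  · have h4 : σ α = β := sub_eq_zero.1 h
    exact Or.inr ⟨h4, by rw [h4, add_comm α β] at h1; exact add_left_cancel h1⟩

end Field

section Ring

variable (R : Type u) {Ω : Type u} [CommRing R] [Field Ω] [Algebra R Ω]

/-- `R[α, β]`. -/
abbrev RS (α β : Ω) : Subalgebra R Ω := Algebra.adjoin R {α, β}

variable {R}

lemma isIntegral_root {b c : R} {α β : Ω} (hb : algebraMap R Ω b = -(α + β))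
    (hc : algebraMap R Ω c = α * β) : IsIntegral R α := by
  refine ⟨X ^ 2 + C b * X + C c, ?_, ?_⟩
  · have : (X ^ 2 + C b * X + C c : Polynomial R) = X ^ 2 + (C b * X + C c) := by ring
    rw [this]
    refine monic_X_pow_add ?_
    exact (degree_linear_le).trans_lt (by norm_num)
  · rw [eval₂_add, eval₂_add, eval₂_pow, eval₂_mul, eval₂_X, eval₂_C, eval₂_C, hb, hc]
    ring

lemma finite_RS {b c : R} {α β : Ω} (hb : algebraMap R Ω b = -(α + β))
    (hc : algebraMap R Ω c = α * β) : Module.Finite R (RS R α β) := by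
  refine ⟨(Submodule.fg_top _).mpr (fg_adjoin_of_finite (Set.toFinite _) ?_)⟩
  rintro x (rfl | rfl)
  · exact isIntegral_root hb hc
  · exact isIntegral_root (by rw [hb, add_comm]) (by rw [hc, mul_comm])

lemma strictlyHenselian (hR : EtCoh.IsStrictlyHenselianLocalRing R) {b c : R} {α β : Ω}
    (hb : algebraMap R Ω b = -(α + β)) (hc : algebraMap R Ω c = α * β) :
    EtCoh.IsStrictlyHenselianLocalRing (RS R α β) := by
  obtain ⟨h1, h2⟩ := hR
  have := finite_RS hb hc
  obtain ⟨h3, h4, h5⟩ := Groth.Agent.S1964.result R (RS R α β)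
  exact ⟨h3, (h5 h2).1⟩

/-- An endomorphism fixing the roots fixes `R[α, β]`. -/
lemma fix_RS {α β : Ω} (σ : Ω →ₐ[R] Ω) (hα : σ α = α) (hβ : σ β = β) (x : RS R α β) :
    σ x = x := by
  have h : RS R α β ≤ AlgHom.equalizer σ (AlgHom.id R Ω) := by
    refine Algebra.adjoin_le ?_
    rintro y (rfl | rfl)
    · exact hα
    · exact hβ
  exact h x.2

end Ring

end Groth.Agent.Vancyc.H682.AlgR
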