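import Groth.Agent.Vancyc.H682.GalD

/-!
# Constant sheaves in the total category

`cz Λ f : (X, Λ[0]) ⟶ (Y, Λ[0])`, functorial in `f`.
-/

set_option autoImplicit false
universe u
open CategoryTheory CategoryTheory.Limits AlgebraicGeometry Opposite DerivedCategory

namespace Groth.Agent.Vancyc.H682.ConstArr

open EtCoh Groth.Agent.Sga4h.LPull Groth.Agent.Sga4h.TotCat Groth.Agent.Etcore.PullCoh
open Groth.Agent.Vancyc.H682.SingleAbs Groth.Agent.Vancyc.H682.Single Groth.Agent.Vancyc.H682.Theta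

attribute [local instance] HasDerivedCategory.standard

variable {X Y Z : Scheme.{u}} (Λ : Type) [AddCommGroup Λ]

/-- Coherence of `pullConst`. -/
lemma pc_cohΛ {f : X ⟶ Y} {t : Y ⟶ Z} {f₀ : X ⟶ Z} (w : f ≫ t = f₀) :
    (pcomp w).inv.app (const Z Λ) ≫ (pull f).map (EtCore.pullConst t Λ).hom ≫
      (EtCore.pullConst f Λ).hom = (EtCore.pullConst f₀ Λ).hom := by
  rw [pullConst_comp f t f₀ w Λ]
  have h := pcomp_inv_th w (const Z Λ)
  rw [← Category.assoc, h, Category.id_comp]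

/-- The cartesian arrow of constant sheaves. -/
noncomputable def cz (f : X ⟶ Y) : ofS (const X Λ) ⟶ ofS (const Y Λ) :=
  sa f (EtCore.pullConst f Λ).hom

@[simp] lemma cz_base (f : X ⟶ Y) : (cz Λ f).base = f := rfl

lemma cz_comp {f : X ⟶ Y} {g : Y ⟶ Z} {k : X ⟶ Z} (w : f ≫ g = k) : cz Λ f ≫ cz Λ g = cz Λ k :=
  (sa_comp w _ _).trans (congrArg (sa k) (pc_cohΛ Λ w))

lemma isC_cz (f : X ⟶ Y) : IsC (cz Λ f) := isC_sa f _

end Groth.Agent.Vancyc.H682.ConstArr
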