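import Groth.Agent.Sga4h.RPairDer
import Groth.Agent.LoccohA.DzTrunc
import Mathlib.CategoryTheory.Triangulated.Yoneda

/-!
# Vanishing of morphisms in a derived category

* `hom_eq_zero`: `Hom(A[0], K) = 0` if `K` is bounded below and `Ext^p(A, H^n K) = 0` for all `p`, `n`;
* `hom_eq_zero_of_isLE_isGE`: `Hom(K, L) = 0` for `K ∈ D^{≤ a}`, `L ∈ D^{> a}`.
-/

set_option autoImplicit false

open CategoryTheory CategoryTheory.Limits DerivedCategory Abelian Pretriangulated Triangulated

namespace Groth.Agent.Vancyc.H682.HomVan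

open Groth.Agent.Sga4h.RPair

universe v u w t

variable {C : Type u} [Category.{v} C] [Abelian C] [HasDerivedCategory.{w} C]

/-- `Hom(K, L) = 0` for `K ∈ D^{≤ a}`, `L ∈ D^{≥ b}`, `a < b`. -/
lemma hom_eq_zero_of_isLE_isGE {K L : DerivedCategory C} (f : K ⟶ L) (a b : ℤ) (h : a < b)
    [K.IsLE a] [L.IsGE b] : f = 0 :=
  TStructure.t.zero_of_isLE_of_isGE f a b h inferInstance inferInstance

variable [HasExt.{t} C]

lemma single_hom_eq_zero (A G : C) (n : ℤ) (h : ∀ p : ℕ, Subsingleton (Ext A G p))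
    (f : (singleFunctor C 0).obj A ⟶ (singleFunctor C n).obj G) : f = 0 := by
  by_cases hn : 0 < n
  · exact hom_eq_zero_of_isLE_isGE f 0 n hn
  · obtain ⟨p, rfl⟩ : ∃ p : ℕ, n = -(p : ℤ) := ⟨n.natAbs, by omega⟩
    let e : (singleFunctor C (-(p : ℤ))).obj G ≅ ((singleFunctor C 0).obj G)⟦(p : ℤ)⟧ :=
      (((singleFunctors C).shiftIso (p : ℤ) (-(p : ℤ)) 0 (by lia)).app G).symm
    have h1 : Subsingleton (ShiftedHom ((singleFunctor C 0).obj A) ((singleFunctor C 0).obj G)
      (p : ℤ)) := (Ext.homEquiv (X := A) (Y := G) (n := p)).symm.subsingleton_congr.2 (h p)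
    have h2 : f ≫ e.hom = (0 : (singleFunctor C 0).obj A ⟶ ((singleFunctor C 0).obj G)⟦(p : ℤ)⟧) :=
      Subsingleton.elim (α := ShiftedHom ((singleFunctor C 0).obj A) ((singleFunctor C 0).obj G)
        (p : ℤ)) _ _
    rw [← cancel_mono e.hom, h2, zero_comp]

/-- `Hom(A[0], K) = 0` if `Ext^p(A, H^n K) = 0` for all `p`, `n`. -/
theorem hom_eq_zero (A : C) (K : DerivedCategory C) (a : ℤ) [K.IsGE a]
    (h : ∀ (n : ℤ) (p : ℕ), Subsingleton (Ext A ((homologyFunctor C n).obj K) p))
    (f : (singleFunctor C 0).obj A ⟶ K) : f = 0 := by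
  have hA : TStructure.t.IsLE ((singleFunctor C 0).obj A) 0 :=
    inferInstanceAs (DerivedCategory.IsLE ((singleFunctor C 0).obj A) 0)
  let P : ObjectProperty (DerivedCategory C) := fun L =>
    ∀ g : (singleFunctor C 0).obj A ⟶ L, g = 0
  have hPiso : P.IsClosedUnderIsomorphisms :=
    ⟨fun {X Y} e hX g => by
      rw [← cancel_mono e.inv, hX (g ≫ e.inv), zero_comp]⟩
  let K' := (TStructure.t.truncLE 0).obj K
  have h1 : K'.IsGE a := by
    rw [isGE_iff]
    intro i hi
    by_cases h0 : i ≤ 0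
    · have := LoccohA.DzTrunc.isIso_homology_truncLE K 0 i h0
      exact (isZero_of_isGE K a i hi).of_iso
        (asIso ((homologyFunctor C i).map ((TStructure.t.truncLEι 0).app K)))
    · exact isZero_of_isLE K' 0 i (by lia)
  have h2 : K'.IsLE 0 := by
    change TStructure.t.IsLE _ _
    infer_instance
  have key : P K' := by
    refine devissage P (fun X hX g => hX.eq_of_tgt _ _) (fun T hT h₁ h₃ g => ?_) K' a 0 (fun n g => ?_)
    · obtain ⟨g', hg'⟩ := Triangle.coyoneda_exact₂ T hT g (h₃ _)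
      rw [hg', h₁ g', zero_comp]
    · by_cases h0 : n ≤ 0
      · have := LoccohA.DzTrunc.isIso_homology_truncLE K 0 n h0
        let e := (singleFunctor C n).mapIso
          (asIso ((homologyFunctor C n).map ((TStructure.t.truncLEι 0).app K)))
        rw [← cancel_mono e.hom, zero_comp]
        exact single_hom_eq_zero A _ n (h n) _
      · exact ((singleFunctor C n).map_isZero (isZero_of_isLE K' 0 n (by lia))).eq_of_tgt _ _
  have h3 : f = TStructure.t.liftTruncLE f 0 ≫ (TStructure.t.truncLEι 0).app K :=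
    (TStructure.t.liftTruncLE_ι f 0).symm
  rw [h3, key (TStructure.t.liftTruncLE f 0), zero_comp]

end Groth.Agent.Vancyc.H682.HomVan
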