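import Groth.Agent.Vancyc.H682.HomVan
import Mathlib.CategoryTheory.Triangulated.Yoneda

/-!
# Objects of derived categories killed by an integer

* `Kill n K`: `n • 𝟙 K = 0`; stability under functors, triangles, shifts, universal morphisms;

* `isGE_of_forall`: criterion for `K ∈ D^{≥ b}`.
-/

set_option autoImplicit false

open CategoryTheory CategoryTheory.Limits Opposite DerivedCategory Pretriangulated
  Triangulated

namespace Groth.Agent.Vancyc.H682.KillObj

section abs

universe v u v' u'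

variable {C : Type u} [Category.{v} C] [Preadditive C]

/-- `n` kills `K`. -/
def Kill (n : ℕ) (K : C) : Prop := n • 𝟙 K = 0

variable {n m : ℕ}

lemma Kill.nsmul_left {K L : C} (h : Kill n K) (f : K ⟶ L) : n • f = 0 := by
  have : n • f = (n • 𝟙 K) ≫ f := by rw [Preadditive.nsmul_comp, Category.id_comp]
  rw [this, show n • 𝟙 K = 0 from h, zero_comp]

lemma Kill.nsmul_right {K L : C} (h : Kill n L) (f : K ⟶ L) : n • f = 0 := by
  have : n • f = f ≫ (n • 𝟙 L) := by rw [Preadditive.comp_nsmul, Category.comp_id]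
  rw [this, show n • 𝟙 L = 0 from h, comp_zero]

lemma Kill.of_iso {K L : C} (h : Kill n K) (e : K ≅ L) : Kill n L := by
  have : n • 𝟙 L = e.inv ≫ (n • 𝟙 K) ≫ e.hom := by simp
  rw [Kill, this, show n • 𝟙 K = 0 from h, zero_comp, comp_zero]

lemma Kill.map {D : Type u'} [Category.{v'} D] [Preadditive D] (F : C ⥤ D) [F.Additive] {K : C}
    (h : Kill n K) : Kill n (F.obj K) := by
  have : n • 𝟙 (F.obj K) = F.map (n • 𝟙 K) := by
    rw [Functor.map_nsmul, CategoryTheory.Functor.map_id]
  rw [Kill, this, show n • 𝟙 K = 0 from h, Functor.map_zero]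

lemma Kill.mul_right {K : C} (h : Kill n K) (m : ℕ) : Kill (n * m) K := by
  rw [Kill, mul_nsmul, show n • 𝟙 K = 0 from h, nsmul_zero]

variable [HasZeroObject C] [HasShift C ℤ] [∀ n : ℤ, (shiftFunctor C n).Additive] [Pretriangulated C]

lemma Kill.mid {T : Triangle C} (hT : T ∈ distTriang C) (h₁ : Kill n T.obj₁) (h₃ : Kill m T.obj₃) :
    Kill (m * n) T.obj₂ := by
  have h : (m • 𝟙 T.obj₂) ≫ T.mor₂ = 0 := by
    rw [Preadditive.nsmul_comp]
    exact h₃.nsmul_right _
  obtain ⟨g, hg⟩ := Triangle.coyoneda_exact₂ T hT _ h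
  rw [Kill, mul_nsmul, hg, ← Preadditive.nsmul_comp, h₁.nsmul_right, zero_comp]

lemma Kill.three {T : Triangle C} (hT : T ∈ distTriang C) (h₁ : Kill n T.obj₁)
    (h₂ : Kill m T.obj₂) : Kill (n * m) T.obj₃ :=
  Kill.mid (rot_of_distTriang _ hT) h₂ (h₁.map (shiftFunctor C (1 : ℤ)))

end abs

section ge

universe v u w

variable {C : Type u} [Category.{v} C] [Abelian C] [HasDerivedCategory.{w} C]

/-- Criterion for `K ∈ D^{≥ b}`. -/
lemma isGE_of_forall (K : DerivedCategory C) (b : ℤ)
    (h : ∀ (N : DerivedCategory C) (_ : N.IsLE (b - 1)) (f : N ⟶ K), f = 0) : K.IsGE b := by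
  change TStructure.t.IsGE _ _
  rw [TStructure.t.isGE_iff_isZero_truncLT_obj, IsZero.iff_id_eq_zero]
  have hLE : DerivedCategory.IsLE ((TStructure.t.truncLT b).obj K) (b - 1) := by
    change TStructure.t.IsLE _ _
    infer_instance
  apply TStructure.t.to_truncLT_obj_ext
  rw [Category.id_comp, zero_comp]
  exact h _ hLE _

end ge

end Groth.Agent.Vancyc.H682.KillObj
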