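import Groth.Agent.Vancyc.H682.LocModel
import Groth.Agent.Vancyc.H682.AlgR
import Groth.Agent.Vancyc.H683.YGeoStd

/-!
# The split even model

`locTriv_modelEven`: an automorphism fixing the roots of `T² + b T + c` acts trivially on the nearby cycles of the
even model.
-/

set_option autoImplicit false
universe u
open CategoryTheory CategoryTheory.Limits AlgebraicGeometry Opposite DerivedCategory

namespace Groth.Agent.Vancyc.H682.LocEven

open EtCoh Groth.Agent.Etrest.DEtPush VanCyc Groth.Agent.Vancyc.H682.Loc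
open Groth.Agent.Vancyc.H682.Single Groth.Agent.Vancyc.H682.AlgR
open Groth.Agent.Vancyc.H683 Groth.Agent.Vancyc.H694.StdT

attribute [local instance] HasDerivedCategory.standard

/-- The geometric input. -/
def ResHyp : Prop := ∀ {R R' Ω : Type u} [CommRing R] [CommRing R'] [Field Ω] [Algebra R R']
    [Algebra R' Ω] [Algebra R Ω] [IsScalarTower R R' Ω] [Module.Finite R R'] (m : ℕ) (_ : 0 < m)
    (b c : R) (α β : R') (_ : algebraMap R R' b = -(α + β)) (_ : algebraMap R R' c = α * β)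
    (_ : algebraMap R' Ω (α - β) ≠ 0) (N : ℕ) (_ : 0 < N) (_ : IsUnit (N : Ω))
    (f₀ : Spec (CommRingCat.of (YGeoStd.BR R m b c)) ⟶ Spec (CommRingCat.of R))
    (_ : f₀ = Spec.map (CommRingCat.ofHom (algebraMap R _))),
    ∃ (Ut Vt : Scheme.{u}) (g : Ut ⟶ Spec (CommRingCat.of (YGeoStd.BR R m b c))) (_ : IsProper g)
      (e : Ut ⟶ Spec (CommRingCat.of R')) (_ : Smooth e) (_ : e ≫ VanCyc.toS R R' = g ≫ f₀)
      (π : Vt ⟶ VanCyc.fib R f₀ Ω) (jt : Vt ⟶ Ut) (_ : jt ≫ g = π ≫ VanCyc.jA R f₀ Ω)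
      (_ : IsPullback jt (π ≫ VanCyc.fibStr R f₀ Ω) e (VanCyc.toS R' Ω)),
      IsSplitMono ((dPullPush π).unit.app
        ((DerivedCategory.singleFunctor (EtCoh.Ab _) 0).obj (EtCoh.const _ (ZMod N))))

theorem locTriv_BR (H : ResHyp.{u}) {R K Ω : Type u} [CommRing R] [IsLocalRing R]
    (hR : EtCoh.IsStrictlyHenselianLocalRing R) [Field K] [Algebra R K]
    [Field Ω] [IsSepClosed Ω] [Algebra K Ω] [Algebra R Ω] [IsScalarTower R K Ω]
    (m : ℕ) (hm : 0 < m) (b c : R) {α β : Ω} (hb : algebraMap R Ω b = -(α + β))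
    (hc : algebraMap R Ω c = α * β) (hαβ : α - β ≠ 0) (N : ℕ) (hN : IsUnit (N : R))
    (σ : Ω ≃ₐ[K] Ω) (hσα : σ α = α) (hσβ : σ β = β)
    (f₀ : Spec (CommRingCat.of (YGeoStd.BR R m b c)) ⟶ Spec (CommRingCat.of R))
    (hf₀ : f₀ = Spec.map (CommRingCat.ofHom (algebraMap R _))) :
    LocTriv f₀ σ N := by
  have hN0 : 0 < N := by
    rcases Nat.eq_zero_or_pos N with rfl | h
    · rw [Nat.cast_zero] at hN
      exact absurd hN not_isUnit_zero
    · exact h
  have hfin := finite_RS hb hc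
  obtain ⟨hh, hs⟩ := strictlyHenselian hR hb hc
  have hNR' : IsUnit (N : RS R α β) := by
    have := hN.map (algebraMap R (RS R α β))
    rwa [map_natCast] at this
  have hNΩ : IsUnit (N : Ω) := by
    have := hN.map (algebraMap R Ω)
    rwa [map_natCast] at this
  obtain ⟨Ut, Vt, g, hg, e, hse, he, π, jt, hj, sq, hsp⟩ := H (R := R) (R' := RS R α β) (Ω := Ω) m hm b c
    ⟨α, Algebra.subset_adjoin (Set.mem_insert _ _)⟩
    ⟨β, Algebra.subset_adjoin (Set.mem_insert_of_mem _ rfl)⟩ (Subtype.ext hb) (Subtype.ext hc) hαβ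
    N hN0 hNΩ f₀ hf₀
  exact LocModel.locTriv_of_resolution (R' := RS R α β) f₀ σ
    (fun x => fix_RS (AlgHom.restrictScalars R (σ : Ω →ₐ[K] Ω)) hσα hσβ x) N hN0 hNR' g e he π jt hj
    sq hsp

theorem locTriv_modelEven (H : ResHyp.{u}) {R K Ω : Type u} [CommRing R] [IsLocalRing R]
    (hR : EtCoh.IsStrictlyHenselianLocalRing R) [Field K] [Algebra R K]
    [Field Ω] [IsSepClosed Ω] [Algebra K Ω] [Algebra R Ω] [IsScalarTower R K Ω]
    (m : ℕ) (hm : 0 < m) (b c : R) {α β : Ω} (hb : algebraMap R Ω b = -(α + β))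
    (hc : algebraMap R Ω c = α * β) (hαβ : α - β ≠ 0) (N : ℕ) (hN : IsUnit (N : R))
    (σ : Ω ≃ₐ[K] Ω) (hσα : σ α = α) (hσβ : σ β = β) :
    LocTriv (modelEven R m b c) σ N :=
  locTriv_BR H hR m hm b c hb hc hαβ N hN σ hσα hσβ (modelEven R m b c) rfl

end Groth.Agent.Vancyc.H682.LocEven
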