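import Groth.Agent.Vancyc.H682.ResLoc
import Groth.Agent.Vancyc.H682.LocEt
import Groth.Agent.Vancyc.H675.SmoothPt

/-!
# `LocTriv` from a resolution over a finite extension of the base

`locTriv_of_resolution`: `f₀ : X ⟶ Spec R`, `R'` a henselian local ring with separably closed residue field, integral
over `R`, `σ` an automorphism of `Ω` over `R'`, `Ut ⟶ X` proper, smooth over `R'`,
whose geometric generic fibre has split unit: `σ` acts trivially on the nearby cycles.
-/

set_option autoImplicit false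
universe u
open CategoryTheory CategoryTheory.Limits AlgebraicGeometry Opposite DerivedCategory

namespace Groth.Agent.Vancyc.H682.LocModel

open EtCoh Groth.Agent.Sga4h.LPull Groth.Agent.Sga4h.TotCat
open Groth.Agent.Vancyc.H682.SingleAbs Groth.Agent.Vancyc.H682.Single
open Groth.Agent.Vancyc.H682.Act Groth.Agent.Vancyc.H682.GalD Groth.Agent.Vancyc.H682.Loc
open Groth.Agent.Vancyc.H682.UnitEt Groth.Agent.Etrest.DEtPush VanCyc

attribute [local instance] HasDerivedCategory.standard

/-- Smooth schemes over a henselian base. -/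
theorem acycAt_of_smooth {R' : Type u} [CommRing R'] [HenselianLocalRing R']
    [IsSepClosed (IsLocalRing.ResidueField R')] {Ω : Type u} [Field Ω] [IsSepClosed Ω]
    (t : Spec (CommRingCat.of Ω) ⟶ Spec (CommRingCat.of R')) {Ut Vt : Scheme.{u}}
    {e : Ut ⟶ Spec (CommRingCat.of R')} [Smooth e] {jt : Vt ⟶ Ut} {b : Vt ⟶ Spec (CommRingCat.of Ω)}
    (sq : IsPullback jt b e t) (N : ℕ) (hN : IsUnit (N : R')) {Ω' : Type u} [Field Ω']
    [IsSepClosed Ω'] (ζ : Spec (CommRingCat.of Ω') ⟶ Ut)
    (hζ : e (ζ default) = IsLocalRing.closedPoint R') : AcycAt ζ jt (const Ut (ZMod N)) := by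
  have hN' : IsUnit (N : Γ(Spec (CommRingCat.of R'), ⊤)) := by
    have h1 := hN.map (Scheme.ΓSpecIso (CommRingCat.of R')).inv.hom
    rwa [map_natCast] at h1
  have h2 := H675.SmoothPt.acycPt_const_of_smooth e t jt b sq.flip N hN'
    (AddCommGrpCat.of (ULift.{u + 1} (ZMod N))) (fun m => by
      apply ULift.ext
      rw [ULift.smul_down, nsmul_eq_mul, CharP.cast_eq_zero, zero_mul]
      rfl) ζ (H675.AcycPt.acycPt_const_point R' t _ (ζ ≫ e) (by
        rw [Scheme.Hom.comp_apply]; exact hζ))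
  exact h2

/-- A point of an integral extension over the closed point is closed. -/
lemma eq_closedPoint {R R' : Type u} [CommRing R] [IsLocalRing R] [CommRing R'] [IsLocalRing R']
    [Algebra R R'] [Algebra.IsIntegral R R'] (p : PrimeSpectrum R')
    (h : PrimeSpectrum.comap (algebraMap R R') p = IsLocalRing.closedPoint R) :
    p = IsLocalRing.closedPoint R' := by
  have h1 : p.asIdeal.comap (algebraMap R R') = IsLocalRing.maximalIdeal R :=
    congrArg PrimeSpectrum.asIdeal h
  have h2 : (p.asIdeal.comap (algebraMap R R')).IsMaximal := by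
    rw [h1]; exact IsLocalRing.maximalIdeal.isMaximal R
  have h3 := Ideal.isMaximal_of_isIntegral_of_isMaximal_comap (R := R) p.asIdeal h2
  exact PrimeSpectrum.ext (IsLocalRing.eq_maximalIdeal h3)

theorem locTriv_of_resolution {R K Ω R' : Type u} [CommRing R] [IsLocalRing R] [Field K] [Algebra R K]
    [Field Ω] [IsSepClosed Ω] [Algebra K Ω] [Algebra R Ω] [IsScalarTower R K Ω]
    [CommRing R'] [HenselianLocalRing R'] [IsSepClosed (IsLocalRing.ResidueField R')]
    [Algebra R R'] [Algebra.IsIntegral R R'] [Algebra R' Ω] [IsScalarTower R R' Ω]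
    {X : Scheme.{u}} (f : X ⟶ Spec (CommRingCat.of R)) (σ : Ω ≃ₐ[K] Ω)
    (hσ : ∀ x : R', σ (algebraMap R' Ω x) = algebraMap R' Ω x) (N : ℕ) (hN0 : 0 < N)
    (hN : IsUnit (N : R')) {Ut Vt : Scheme.{u}} (g : Ut ⟶ X) [IsProper g]
    (e : Ut ⟶ Spec (CommRingCat.of R')) [Smooth e] (he : e ≫ toS R R' = g ≫ f)
    (π : Vt ⟶ fib R f Ω) (jt : Vt ⟶ Ut) (hj : jt ≫ g = π ≫ jA R f Ω)
    (sq : IsPullback jt (π ≫ fibStr R f Ω) e (toS R' Ω))
    (hsp : IsSplitMono ((dPullPush π).unit.app (S0 (const (fib R f Ω) (ZMod N))))) :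
    LocTriv f σ N := by
  intro M u hub hu a ha
  have hs1 : Spec.map (CommRingCat.ofHom (σ : Ω →+* Ω)) ≫ toS R' Ω = toS R' Ω := by
    rw [← Spec.map_comp, ← CommRingCat.ofHom_comp]
    congr 2
    ext x
    exact hσ x
  -- the lift of `s`
  let st : Vt ⟶ Vt := sq.lift jt ((π ≫ fibStr R f Ω) ≫ Spec.map (CommRingCat.ofHom (σ : Ω →+* Ω)))
    (by rw [Category.assoc, hs1]; exact sq.w)
  have hst : st ≫ jt = jt := sq.lift_fst _ _ _
  have hst2 : st ≫ π ≫ fibStr R f Ω =
      (π ≫ fibStr R f Ω) ≫ Spec.map (CommRingCat.ofHom (σ : Ω →+* Ω)) := sq.lift_snd _ _ _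
  have hst' : st ≫ π = π ≫ galGeom f σ := by
    apply pullback.hom_ext
    · change (st ≫ π) ≫ jA R f Ω = (π ≫ galGeom f σ) ≫ jA R f Ω
      rw [Category.assoc, ← hj, ← Category.assoc, hst, hj, Category.assoc, galGeom_jA]
    · change (st ≫ π) ≫ fibStr R f Ω = (π ≫ galGeom f σ) ≫ fibStr R f Ω
      have h3 : galGeom f σ ≫ fibStr R f Ω = fibStr R f Ω ≫ Spec.map (CommRingCat.ofHom (σ : Ω →+* Ω)) := by
        simp only [galGeom, fibStr, pullback.map, pullback.lift_snd]
      rw [Category.assoc, hst2, Category.assoc, Category.assoc, h3]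
  refine ResLoc.map_act_eq_id (galGeom_jA f σ) hj hst hst' (IsPullback.of_hasPullback g (icl R f)) N
    hN0 hsp (fun Ω' _ _ ζ => ?_) hub hu ha
  refine acycAt_of_smooth (toS R' Ω) sq N hN _ ?_
  apply eq_closedPoint (R := R)
  have h4 : (toS R R') (e ((ζ ≫ pullback.fst g (icl R f)) default)) =
      IsLocalRing.closedPoint R := by
    rw [← Scheme.Hom.comp_apply, ← Scheme.Hom.comp_apply]
    have h5 : ((ζ ≫ pullback.fst g (icl R f)) ≫ e ≫ toS R R') =
        (ζ ≫ pullback.snd g (icl R f) ≫ spStr R f) ≫ toSk R := by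
      rw [he, Category.assoc, ← Category.assoc (pullback.fst g (icl R f)), pullback.condition,
        Category.assoc, Category.assoc, Category.assoc]
      congr 2
      exact pullback.condition
    have h6 : ((ζ ≫ pullback.fst g (icl R f)) ≫ e ≫ toS R R') default =
        ((ζ ≫ pullback.snd g (icl R f) ≫ spStr R f) ≫ toSk R) default := by rw [h5]
    rw [Scheme.Hom.comp_apply (ζ ≫ pullback.snd g (icl R f) ≫ spStr R f)] at h6
    refine Eq.trans ?_ (h6.trans (H675.SmoothPt.toSk_apply R _))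
    rfl
  exact h4

end Groth.Agent.Vancyc.H682.LocModel
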