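import Groth.Agent.Vancyc.H682.Inj
import Groth.Agent.Sga4h.TotBridge
import Groth.Agent.Etrest.PBC

/-!
# Proper base change in the total category
-/

set_option autoImplicit false
universe u
open CategoryTheory CategoryTheory.Limits AlgebraicGeometry Opposite DerivedCategory

namespace Groth.Agent.Vancyc.H682.PBCTot

open EtCoh Groth.Agent.Sga4h.LPull Groth.Agent.Sga4h.TotCat
open Groth.Agent.Sga4h.TotBridge Groth.Agent.Sga4h
open Groth.Agent.Vancyc.H682.KillObj Groth.Agent.Vancyc.H682.Inj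

attribute [local instance] HasDerivedCategory.standard

variable {X' Y' : Scheme.{u}}

/-- Proper base change: the base change of a universal arrow over a proper morphism is universal. -/
theorem isU_proper {x y : Tot.{u}} {a : x ⟶ y} (ha : IsU a) [IsProper a.base] {n : ℕ} (hn : 0 < n)
    (hK : Kill n x.K) (b : ℤ) (hb : DerivedCategory.IsGE x.K b) {gY : Y' ⟶ y.X} {f' : X' ⟶ Y'}
    {gX : X' ⟶ x.X} (h : IsPullback gX f' a.base gY) :
    ∃ a' : (⟨X', (L gX).obj x.K⟩ : Tot) ⟶ ⟨Y', (L gY).obj y.K⟩, a'.base = f' ∧ IsU a' ∧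
      a' ≫ car y gY = car x gX ≫ a := by
  obtain ⟨a', e, w⟩ := exists_bc a gY f' gX h.w
  refine ⟨a', e, ?_, w⟩
  rw [isU_iff_BC ha h.w a' e w, GSq.BC_iff]
  exact Groth.Agent.Etrest.PBC.isIso_bcEt h x.K
    ⟨b, fun i hi => DerivedCategory.isZero_of_isGE x.K b i hi⟩
    (fun i => isTorsion_homology hn hK i)

end Groth.Agent.Vancyc.H682.PBCTot
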