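import Groth.Agent.Sga4h.TotBridge

/-!
# Retractions of unit morphisms

If the unit `F ⟶ R π_* π^* F` is a split monomorphism, so is every `ε : K ⟶ P` with `p ≫ v ε = κ`, `κ` cartesian and
`p` universal over `π`, `K ≅ F`.
-/

set_option autoImplicit false
universe u
open CategoryTheory CategoryTheory.Limits AlgebraicGeometry Opposite DerivedCategory

namespace Groth.Agent.Vancyc.H682.Retr

open EtCoh Groth.Agent.Sga4h.LPull Groth.Agent.Sga4h.TotCat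
open Groth.Agent.Sga4h.TotBridge Groth.Agent.Sga4h Groth.Agent.Sga4h.RPair
open Groth.Agent.Etrest.DEtPush

attribute [local instance] HasDerivedCategory.standard

variable {V Vt : Scheme.{u}}

/-- A split unit at `F` is split at `K ≅ F`. -/
lemma isSplitMono_unit_of_iso {C D : Type*} [Category* C] [Category* D] {F : C ⥤ D} {G : D ⥤ C}
    (adj : F ⊣ G) {X Y : C} (e : X ≅ Y) (h : IsSplitMono (adj.unit.app X)) :
    IsSplitMono (adj.unit.app Y) := by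
  obtain ⟨⟨r, hr⟩⟩ := h
  refine ⟨⟨G.map (F.map e.inv) ≫ r ≫ e.hom, ?_⟩⟩
  have h1 := adj.unit.naturality e.inv
  simp only [Functor.id_map, Functor.comp_map] at h1
  rw [← Category.assoc, ← h1, Category.assoc, ← Category.assoc (adj.unit.app X), hr,
    Category.id_comp, e.inv_hom_id]
  rfl

/-- The arrow `(Vt, π^* K) ⟶ (V, K)` factors through the universal one by the unit. -/
lemma car_eq (π : Vt ⟶ V) (K : D V) :
    arr (x := ⟨Vt, (L π).obj K⟩) (y := ⟨V, (pushD π).obj ((L π).obj K)⟩) π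
      ((dPullPush π).counit.app ((L π).obj K)) ≫
      v (x := ⟨V, (pushD π).obj ((L π).obj K)⟩) ((dPullPush π).unit.app K) = car ⟨V, K⟩ π := by
  refine (comp_v _ _).trans ?_
  exact congrArg (arr (x := ⟨Vt, (L π).obj K⟩) (y := ⟨V, K⟩) π)
    ((dPullPush π).left_triangle_components K)

/-- The formal part. -/
lemma exists_retraction_aux {π : Vt ⟶ V} {K P N : D V} {Kt : D Vt}
    {q : (⟨Vt, (L π).obj K⟩ : Tot) ⟶ ⟨V, N⟩} (hq : IsU q) (hqb : q.base = π) {η : K ⟶ N}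
    (hη : q ≫ v (x := ⟨V, N⟩) η = car ⟨V, K⟩ π)
    {p : (⟨Vt, Kt⟩ : Tot) ⟶ ⟨V, P⟩} (hp : IsU p) (hpb : p.base = π)
    {κ : (⟨Vt, Kt⟩ : Tot) ⟶ ⟨V, K⟩} (hκ : IsC κ) {ε : K ⟶ P} (hε : p ≫ v (x := ⟨V, P⟩) ε = κ)
    {r : N ⟶ K} (hr : η ≫ r = 𝟙 K) :
    ∃ r : P ⟶ K, ε ≫ r = 𝟙 K := by
  have hκb : κ.base = π := by
    rw [← hε, comp_base, hpb]
    exact Category.comp_id _
  obtain ⟨c, hcb, hc⟩ := (isC_car ⟨V, K⟩ π).exists_lift κ (𝟙 Vt) (by
    rw [hκb]; exact Category.id_comp _)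
  have hcC : IsC c := IsC.of_comp (isC_car ⟨V, K⟩ π) (by rw [hc]; exact hκ)
  have : IsIso c.base := by rw [hcb]; infer_instance
  have hci : IsIso c := hcC.isIso
  have hcU : IsU c := isU_of_isIso c
  have hcq := hcU.comp hq
  obtain ⟨d, hd, hd'⟩ := hp.exists_desc (c ≫ q) (𝟙 V) (by
      rw [hpb, comp_base, hcb, hqb]
      exact (Category.comp_id _).trans (Category.id_comp _).symm)
  obtain ⟨φ, rfl⟩ := exists_v (x := ⟨V, P⟩) d hd
  have hφ : IsIso φ := (isU_v (x := ⟨V, P⟩) φ).1 (hp.of_comp (by rw [hd']; exact hcq))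
  change N ⟶ P at φ
  have h1 : ε = η ≫ φ := by
    refine v_injective (x := ⟨V, P⟩) (hp.hom_ext (b := v (x := ⟨V, P⟩) ε)
      (b' := v (x := ⟨V, P⟩) (η ≫ φ)) rfl ?_)
    rw [← v_comp (x := ⟨V, P⟩) φ η, ← Category.assoc, hd', Category.assoc, hη, hc, hε]
  refine ⟨inv φ ≫ r, ?_⟩
  rw [h1, Category.assoc, IsIso.hom_inv_id_assoc]
  exact hr

theorem exists_retraction {π : Vt ⟶ V} {K P : D V} {Kt : D Vt}
    {p : (⟨Vt, Kt⟩ : Tot) ⟶ ⟨V, P⟩} (hp : IsU p) (hpb : p.base = π)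
    {κ : (⟨Vt, Kt⟩ : Tot) ⟶ ⟨V, K⟩} (hκ : IsC κ) {ε : K ⟶ P} (hε : p ≫ v (x := ⟨V, P⟩) ε = κ)
    {F : D V} (e : F ≅ K) (hs : IsSplitMono ((dPullPush π).unit.app F)) :
    ∃ r : P ⟶ K, ε ≫ r = 𝟙 K := by
  obtain ⟨⟨r, hr⟩⟩ := isSplitMono_unit_of_iso (dPullPush π) e hs
  exact exists_retraction_aux (N := (pushD π).obj ((L π).obj K))
    (q := arr (x := ⟨Vt, (L π).obj K⟩) (y := ⟨V, (pushD π).obj ((L π).obj K)⟩) π
      ((dPullPush π).counit.app ((L π).obj K)))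
    (isUniv_TR (pullPushAdj π) ((L π).obj K)) rfl
    (η := (dPullPush π).unit.app K) (car_eq π K) hp hpb hκ hε hr

end Groth.Agent.Vancyc.H682.Retr
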