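import Groth.Agent.Vancyc.H682.ConstArr
import Groth.Agent.Vancyc.H682.Retr
import Groth.Agent.Vancyc.H682.PBCTot
import Groth.Agent.Vancyc.H682.UnitEt

/-!
# Triviality of the action from a resolution

`map_act_eq_id`: `V ⟶ U` with an automorphism `s` of `V` over `U`, a proper `g : Ut ⟶ U`, and a lift of the situation
to `Vt ⟶ Ut`; if the unit for `π : Vt ⟶ V` is a split monomorphism and `Vt ⟶ Ut` is acyclic at the
geometric points over `Us`, then `s` acts trivially on `i^* R j_* Λ`.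
-/

set_option autoImplicit false
universe u
open CategoryTheory CategoryTheory.Limits AlgebraicGeometry Opposite DerivedCategory

namespace Groth.Agent.Vancyc.H682.ResLoc

open EtCoh Groth.Agent.Sga4h.LPull Groth.Agent.Sga4h.TotCat
open Groth.Agent.Vancyc.H682.SingleAbs Groth.Agent.Vancyc.H682.Single
open Groth.Agent.Vancyc.H682.Act Groth.Agent.Vancyc.H682.GalD Groth.Agent.Vancyc.H682.ConstArr
open Groth.Agent.Vancyc.H682.KillObj Groth.Agent.Vancyc.H682.Inj Groth.Agent.Vancyc.H682.UnitEt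
open Groth.Agent.Etrest.DEtPush

attribute [local instance] HasDerivedCategory.standard

variable {U V Ut Vt Us Uts : Scheme.{u}}

lemma kill_S0 (X : Scheme.{u}) (N : ℕ) : Kill N (S0 (const X (ZMod N))) := by
  refine Kill.map (s0 (Ab X)) ?_
  have := Groth.Agent.EtpbcB.TorsionBasic.killedBy_const (X := X) (n := N) (M := ZMod N)
    (fun m => by rw [nsmul_eq_mul, CharP.cast_eq_zero, zero_mul])
  exact (Groth.Agent.EtpbcB.TorsionBasic.killedBy_iff _ _).1 this

/-- The action fixes the unit, hence is the identity where the unit is an isomorphism. -/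
lemma map_eq_id_of_unit (i : Uts ⟶ Ut) {F M : D Ut} {η : F ⟶ M} {a : M ⟶ M} (h : η ≫ a = η)
    (hη : IsIso ((L i).map η)) : (L i).map a = 𝟙 _ := by
  rw [← cancel_epi ((L i).map η), ← Functor.map_comp, h, Category.comp_id]

theorem map_eq_id_resolution {jt : Vt ⟶ Ut} {st : Vt ⟶ Vt} (hst : st ≫ jt = jt) (N : ℕ)
    {it : Uts ⟶ Ut} {Mt : D Ut}
    {ut : ofS (const Vt (ZMod N)) ⟶ ⟨Ut, Mt⟩} (hub : ut.base = jt) (hut : IsU ut)
    {a : Mt ⟶ Mt} (ha : IsAct ut (cz (ZMod N) st) a)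
    (hac : ∀ (Ω : Type u) [Field Ω] [IsSepClosed Ω] (ζ : Spec (CommRingCat.of Ω) ⟶ Uts),
      AcycAt (ζ ≫ it) jt (const Ut (ZMod N))) : (L it).map a = 𝟙 _ := by
  obtain ⟨d, hd, hd'⟩ := hut.exists_desc (cz (ZMod N) jt) (𝟙 Ut) (by
    rw [hub]; exact (Category.comp_id _).trans rfl)
  obtain ⟨η, rfl⟩ := exists_v (x := ⟨Ut, Mt⟩) d hd
  have h1 : η ≫ a = η := ha.unit hut hd' (cz_comp (ZMod N) hst)
  obtain ⟨κ, hκb, hκ⟩ := (isC_cz (ZMod N) jt).exists_lift (jHat jt (const Ut (ZMod N))) (𝟙 Vt)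
    (Category.id_comp _)
  have hκC : IsC κ := IsC.of_comp (isC_cz (ZMod N) jt) (by rw [hκ]; exact isC_jHat _ _)
  have : IsIso κ.base := by rw [hκb]; infer_instance
  have hκi : IsIso κ := hκC.isIso
  have hU := (isU_of_isIso κ).comp hut
  refine map_eq_id_of_unit it h1 ?_
  refine isIso_L_unit_of_stalks (j := jt) (const Ut (ZMod N)) (u := κ ≫ ut) ?_ hU ?_ it hac
  · rw [comp_base, hκb, hub]
    exact Category.id_comp _
  · rw [Category.assoc, hd']
    exact hκ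

theorem map_act_eq_id {j : V ⟶ U} {s : V ⟶ V} (w : s ≫ j = j) {i : Us ⟶ U} {g : Ut ⟶ U} [IsProper g]
    {π : Vt ⟶ V} {jt : Vt ⟶ Ut} (hj : jt ≫ g = π ≫ j) {st : Vt ⟶ Vt} (hst : st ≫ jt = jt)
    (hst' : st ≫ π = π ≫ s) {it : Uts ⟶ Ut} {gs : Uts ⟶ Us} (hsq : IsPullback it gs g i)
    (N : ℕ) (hN : 0 < N)
    (hsp : IsSplitMono ((dPullPush π).unit.app (S0 (const V (ZMod N)))))
    (hac : ∀ (Ω : Type u) [Field Ω] [IsSepClosed Ω] (ζ : Spec (CommRingCat.of Ω) ⟶ Uts),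
      AcycAt (ζ ≫ it) jt (const Ut (ZMod N)))
    {M : D U} {u : ofS ((pull j).obj (const U (ZMod N))) ⟶ ⟨U, M⟩} (hub : u.base = j) (hu : IsU u)
    {a : M ⟶ M} (ha : IsAct u (sHat s j w (const U (ZMod N))) a) : (L i).map a = 𝟙 _ := by
  -- the cartesian arrow over `π`
  obtain ⟨κ, hκb, hκ⟩ := (isC_jHat j (const U (ZMod N))).exists_lift (cz (ZMod N) (π ≫ j)) π rfl
  have hκC : IsC κ := IsC.of_comp (isC_jHat j (const U (ZMod N))) (by rw [hκ]; exact isC_cz _ _)
  have hstκ : cz (ZMod N) st ≫ κ = κ ≫ sHat s j w (const U (ZMod N)) := by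
    apply (isC_jHat j (const U (ZMod N))).hom_ext
    · rw [comp_base, comp_base, hκb]
      exact hst'
    · rw [Category.assoc, hκ, Category.assoc, sHat_jHat, hκ]
      refine cz_comp (ZMod N) ?_
      rw [← hj, ← Category.assoc, hst]
  -- the derived direct images
  obtain ⟨Mt, ut, hutb, hut⟩ := exists_isU (ofS (const Vt (ZMod N))) jt
  obtain ⟨at', hat⟩ := exists_isAct (s := cz (ZMod N) st) hut (by
    rw [hutb]; exact hst)
  obtain ⟨P, p, hpb, hp⟩ := exists_isU (ofS (const Vt (ZMod N))) π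
  obtain ⟨e, he, he'⟩ := hp.exists_desc κ (𝟙 V) (by
    rw [hpb, hκb]; exact Category.comp_id _)
  obtain ⟨ε, rfl⟩ := exists_v (x := ⟨V, P⟩) e he
  obtain ⟨r, hr⟩ := Retr.exists_retraction hp hpb hκC he'
    ((s0 (Ab V)).mapIso (EtCore.pullConst j (ZMod N)).symm) hsp
  obtain ⟨T, t, htb, ht⟩ := exists_isU (⟨Ut, Mt⟩ : Tot) g
  have hpr : IsProper t.base := by rw [htb]; infer_instance
  obtain ⟨ts, -, hts, w'⟩ := PBCTot.isU_proper ht hN (kill_of_isU hut (kill_S0 Vt N)) 0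
    (isGE_of_isU hut 0 (isGE_S0 _)) (htb ▸ hsq)
  exact local_eq_id hu ha hstκ hut hat hp he' hr ht (by rw [hutb, htb, hpb, hub]; exact hj) hts w'
    (map_eq_id_resolution hst N hutb hut hat hac)

end Groth.Agent.Vancyc.H682.ResLoc
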