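import Groth.Agent.Vancyc.H682.KillObj
import Groth.Agent.Vancyc.H682.SingleAbs
import Groth.Agent.Dcoh.MapDer

/-!
# Recognizing the lowest homology object

`isIso_homology_zero`: `θ : P[0] ⟶ M` with `M ∈ D^{≥ 0}` inducing bijections
`Hom(G, P) ⟶ Hom(G[0], M)` for all `G` in the heart induces an isomorphism on `H^0`.
-/

set_option autoImplicit false

open CategoryTheory CategoryTheory.Limits Opposite DerivedCategory Pretriangulated Triangulated

namespace Groth.Agent.Vancyc.H682.UnitAbs

universe v u w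

variable {C : Type u} [Category.{v} C] [Abelian C] [HasDerivedCategory.{w} C]

theorem isIso_homology_zero {P : C} {M : DerivedCategory C} [hM : M.IsGE 0]
    (θ : (singleFunctor C 0).obj P ⟶ M)
    (h : ∀ G : C, Function.Bijective (fun f : G ⟶ P => (singleFunctor C 0).map f ≫ θ)) :
    IsIso ((homologyFunctor C 0).map θ) := by
  let M' := (TStructure.t.truncLE 0).obj M
  let ι : M' ⟶ M := (TStructure.t.truncLEι 0).app M
  have h1 : M'.IsGE 0 := by
    change TStructure.t.IsGE _ _
    infer_instance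
  have h2 : M'.IsLE 0 := by
    change TStructure.t.IsLE _ _
    infer_instance
  obtain ⟨e⟩ := LoccohA.DzTrunc.nonempty_iso_single M' 0
  have hι : IsIso ((homologyFunctor C 0).map ι) := LoccohA.DzTrunc.isIso_homology_truncLE M 0 0 le_rfl
  have hS : ∀ G : C, TStructure.t.IsLE ((singleFunctor C 0).obj G) 0 := fun G =>
    inferInstanceAs (DerivedCategory.IsLE ((singleFunctor C 0).obj G) 0)
  have hbij : ∀ G : C, Function.Bijective
      (fun f : (singleFunctor C 0).obj G ⟶ M' => f ≫ ι) := by
    intro G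
    have := hS G
    constructor
    · intro f g h
      exact TStructure.t.to_truncLE_obj_ext h
    · intro f
      exact ⟨TStructure.t.liftTruncLE f 0, TStructure.t.liftTruncLE_ι f 0⟩
  obtain ⟨θ', hθ'⟩ := (hbij P).2 θ
  have hθ'' : θ' ≫ ι = θ := hθ'
  obtain ⟨p, hp⟩ := (singleFunctor C 0).map_surjective (θ' ≫ e.hom)
  have hpi : IsIso p := by
    rw [isIso_iff_yoneda_map_bijective]
    intro G
    have hc : ∀ f : G ⟶ P, ((singleFunctor C 0).map (f ≫ p)) ≫ e.inv ≫ ι =
        (singleFunctor C 0).map f ≫ θ := by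
      intro f
      rw [Functor.map_comp, hp]
      simp only [Category.assoc, Iso.hom_inv_id_assoc, hθ'']
    constructor
    · intro f g hfg
      apply (h G).1
      dsimp only at hfg ⊢
      rw [← hc, ← hc, hfg]
    · intro g
      obtain ⟨f, hf⟩ := (h G).2 ((singleFunctor C 0).map g ≫ e.inv ≫ ι)
      refine ⟨f, ?_⟩
      dsimp only at hf ⊢
      rw [← hc] at hf
      have h3 : (singleFunctor C 0).map (f ≫ p) ≫ e.inv = (singleFunctor C 0).map g ≫ e.inv := by
        apply (hbij G).1
        simpa only [Category.assoc] using hf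
      exact (singleFunctor C 0).map_injective ((cancel_mono e.inv).1 h3)
  have hθi : IsIso θ' := by
    have : θ' = (singleFunctor C 0).map p ≫ e.inv := by rw [hp, Category.assoc, e.hom_inv_id,
      Category.comp_id]
    rw [this]
    infer_instance
  rw [← hθ'', Functor.map_comp]
  infer_instance

/-- A morphism `η : F[0] ⟶ M`, `M ∈ D^{≥ 0}`, becomes an isomorphism after an exact functor `Φ` if it does
so on `H^0` and `Φ(H^q M) = 0` for `q ≥ 1`. -/
theorem isIso_of_homology {M : DerivedCategory C} {F : DerivedCategory C} (η : F ⟶ M)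
    (h0 : IsIso ((homologyFunctor C 0).map η)) (hF : ∀ q : ℤ, q ≠ 0 → IsZero ((homologyFunctor C q).obj F))
    (hM : ∀ q : ℤ, q ≠ 0 → IsZero ((homologyFunctor C q).obj M)) : IsIso η := by
  rw [DerivedCategory.isIso_iff]
  intro q
  by_cases hq : q = 0
  · subst hq
    exact h0
  · exact (hF q hq).isIso (hM q hq) _

section unit

open Groth.Agent.Vancyc.H682.SingleAbs

universe v₁ v₂ v₃ u₁ u₂ u₃ w₁ w₂ w₃

variable {A : Type u₁} [Category.{v₁} A] [Abelian A] {B : Type u₂} [Category.{v₂} B] [Abelian B]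
  {D : Type u₃} [Category.{v₃} D] [Abelian D]
  [HasDerivedCategory.{w₁} A] [HasDerivedCategory.{w₂} B] [HasDerivedCategory.{w₃} D]

lemma map_sfib (Φ : A ⥤ B) [Φ.Additive] [PreservesFiniteLimits Φ] [PreservesFiniteColimits Φ]
    {X X' : A} {Y : B} (β : X' ⟶ X) (φ : Φ.obj X ⟶ Y) :
    Φ.mapDerivedCategory.map ((singleFunctor A 0).map β) ≫ sfib Φ φ = sfib Φ (Φ.map β ≫ φ) := by
  have h := (Φ.mapDerivedCategorySingleFunctor 0).hom.naturality β
  have h' : Φ.mapDerivedCategory.map ((singleFunctor A 0).map β) ≫ (s0m Φ X).hom =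
      (s0m Φ X').hom ≫ (singleFunctor B 0).map (Φ.map β) := h
  rw [sfib, sfib, ← Category.assoc, h', Category.assoc, ← Functor.map_comp]

lemma sfib_bijective (Φ : A ⥤ B) [Φ.Additive] [PreservesFiniteLimits Φ]
    [PreservesFiniteColimits Φ] (X : A) (Y : B) :
    Function.Bijective (fun φ : Φ.obj X ⟶ Y => sfib Φ φ) := by
  constructor
  · intro φ ψ h
    dsimp only [sfib] at h
    exact (singleFunctor B 0).map_injective ((cancel_epi _).1 h)
  · intro f
    obtain ⟨φ, hφ⟩ := (singleFunctor B 0).map_surjective ((s0m Φ X).inv ≫ f)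
    refine ⟨φ, ?_⟩
    dsimp only [sfib]
    rw [hφ, Iso.hom_inv_id_assoc]

variable {L₀ : B ⥤ A} {G : A ⥤ B} (adj : L₀ ⊣ G) [L₀.Additive] [PreservesFiniteLimits L₀]
  [PreservesFiniteColimits L₀] (Φ : B ⥤ D) [Φ.Additive] [PreservesFiniteLimits Φ]
  [PreservesFiniteColimits Φ]

/-- The unit `F[0] ⟶ M = R G L₀ F` becomes an isomorphism after applying `Φ` if `Φ(F ⟶ G L₀ F)` is an
isomorphism and `Φ(H^q M) = 0` for `q > 0`. -/
theorem isIso_map_unit (F : B) {M : DerivedCategory B} [M.IsGE 0]
    (ε : L₀.mapDerivedCategory.obj M ⟶ (singleFunctor A 0).obj (L₀.obj F))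
    (hε : ∀ N : DerivedCategory B, Function.Bijective
      (fun b : N ⟶ M => L₀.mapDerivedCategory.map b ≫ ε))
    (η : (singleFunctor B 0).obj F ⟶ M) (hη : L₀.mapDerivedCategory.map η ≫ ε = sfib L₀ (𝟙 _))
    (h0 : IsIso (Φ.map (adj.unit.app F)))
    (hq : ∀ q : ℕ, 0 < q → IsZero (Φ.obj ((homologyFunctor B (q : ℤ)).obj M))) :
    IsIso (Φ.mapDerivedCategory.map η) := by
  let P : B := G.obj (L₀.obj F)
  obtain ⟨θ, hθ⟩ := (hε ((singleFunctor B 0).obj P)).2 (sfib L₀ (adj.counit.app (L₀.obj F)))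
  have hθ' : L₀.mapDerivedCategory.map θ ≫ ε = sfib L₀ (adj.counit.app (L₀.obj F)) := hθ
  have h1 : (singleFunctor B 0).map (adj.unit.app F) ≫ θ = η := by
    apply (hε _).1
    dsimp only
    rw [Functor.map_comp, Category.assoc, hθ', hη, map_sfib]
    exact congrArg (sfib L₀) (adj.left_triangle_components F)
  have h2 : ∀ N : B, Function.Bijective (fun f : N ⟶ P => (singleFunctor B 0).map f ≫ θ) := by
    intro N
    have k1 : Function.Bijective (fun f : N ⟶ P => sfib L₀ (L₀.map f ≫
        adj.counit.app (L₀.obj F))) := by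
      have k2 : Function.Bijective (fun f : N ⟶ P => L₀.map f ≫ adj.counit.app (L₀.obj F)) := by
        have := (adj.homEquiv N (L₀.obj F)).symm.bijective
        have e : ⇑(adj.homEquiv N (L₀.obj F)).symm =
          fun f : N ⟶ P => L₀.map f ≫ adj.counit.app (L₀.obj F) := by
          funext f
          exact Adjunction.homEquiv_counit _ _ _ _
        rwa [e] at this
      exact (sfib_bijective L₀ N (L₀.obj F)).comp k2
    have k3 : (fun f : N ⟶ P => sfib L₀ (L₀.map f ≫ adj.counit.app (L₀.obj F))) =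
        (fun b : (singleFunctor B 0).obj N ⟶ M => L₀.mapDerivedCategory.map b ≫ ε) ∘
          (fun f : N ⟶ P => (singleFunctor B 0).map f ≫ θ) := by
      funext f
      dsimp only [Function.comp]
      rw [Functor.map_comp, Category.assoc, hθ', map_sfib]
    rw [k3] at k1
    exact (Function.Bijective.of_comp_iff' (hε _) _).1 k1
  have h3 := isIso_homology_zero θ h2
  apply isIso_of_homology
  · rw [Groth.Agent.Dcoh.MapDer.isIso_homology_map_iff, ← h1, Functor.map_comp, Functor.map_comp]
    have h4 : IsIso (Φ.map ((homologyFunctor B 0).map ((singleFunctor B 0).map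
        (adj.unit.app F)))) := by
      have := (NatIso.isIso_map_iff (Functor.isoWhiskerRight
        (DerivedCategory.singleFunctorCompHomologyFunctorIso B 0) Φ) (adj.unit.app F)).2
        (by simpa using h0)
      exact this
    infer_instance
  · intro q hq0
    have hE := Groth.Agent.Dcoh.MapDer.isGE_map Φ 0 ((singleFunctor B 0).obj F)
    have hL := Groth.Agent.Dcoh.MapDer.isLE_map Φ 0 ((singleFunctor B 0).obj F)
    rcases lt_or_gt_of_ne hq0 with h | h
    · exact isZero_of_isGE _ 0 q h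
    · exact isZero_of_isLE _ 0 q h
  · intro q hq0
    have hE := Groth.Agent.Dcoh.MapDer.isGE_map Φ 0 M
    rcases lt_or_gt_of_ne hq0 with h | h
    · exact isZero_of_isGE _ 0 q h
    · obtain ⟨n, rfl⟩ : ∃ n : ℕ, q = n := ⟨q.toNat, by omega⟩
      exact (hq n (by omega)).of_iso (Groth.Agent.Dcoh.MapDer.homologyMapDerApp Φ _ M)

end unit

end Groth.Agent.Vancyc.H682.UnitAbs
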